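import Groth.Agent.ProEtInv.Sections
import Groth.Agent.ProEtCont.Basic
import Groth.Agent.WContr.ProEtExact
import Groth.Agent.WContr.ProEtCover
import Groth.Agent.WContr.Exists
import Groth.Agent.S0176
import Groth.Agent.S0734
import Groth.Prelude.Def_ProEtS
import Mathlib

/-!
# The pro-étale site of a universal homeomorphism
-/

set_option autoImplicit false
set_option linter.style.haveILetI false
set_option backward.isDefEq.respectTransparency false
set_option maxHeartbeats 800000
set_option synthInstance.maxHeartbeats 100000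

universe u

open CategoryTheory CategoryTheory.Limits AlgebraicGeometry Opposite TensorProduct

namespace Groth.Agent.ProEtInv

open Groth.Agent.WContr

/-- a criterion for covering sieves -/
theorem mem_topology_of_pieces {X : Scheme.{u}} {U : X.ProEt} (R : Sieve U)
    (h : ∀ x : U.left, ∃ (O : U.left.Opens), x ∈ O ∧ IsAffineOpen O ∧
      ∃ (ι : Type u) (_ : Finite ι) (W : ι → X.ProEt) (g : ∀ k, W k ⟶ U), (∀ k, IsAffine (W k).left) ∧
        (∀ k, R (g k)) ∧ (∀ k, Set.range (g k).left ⊆ O) ∧ ∀ y ∈ O, ∃ k, y ∈ Set.range (g k).left) :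
    R ∈ Scheme.ProEt.topology X U := by
  choose O hxO hO ι _ W g hW hR hrg hs using h
  haveI : ∀ x, IsOpenImmersion (pieceHom U (O x)).left := fun x => inferInstanceAs (IsOpenImmersion (O x).ι)
  refine (Scheme.ProEt.topology X).transitive (zariski_mem_topology (fun x => piece U (O x)) (fun x => pieceHom U (O x))
    fun x => ⟨x, (Scheme.Opens.range_ι (O x)).ge (hxO x)⟩) R ?_
  rintro V f ⟨V', h', _, ⟨x⟩, rfl⟩
  rw [Sieve.pullback_comp]
  refine (Scheme.ProEt.topology X).pullback_stable h' ?_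
  haveI : IsAffine (piece U (O x)).left := hO x
  have hl : ∀ k, Set.range (g x k).left ⊆ Set.range (O x).ι := fun k => by
    rw [Scheme.Opens.range_ι]; exact hrg x k
  let l : ∀ k, W x k ⟶ piece U (O x) := fun k =>
    MorphismProperty.Over.homMk (IsOpenImmersion.lift (O x).ι (g x k).left (hl k)) (by
      show _ ≫ (O x).ι ≫ U.hom = _
      rw [IsOpenImmersion.lift_fac_assoc]
      exact Over.w (g x k).hom)
  have hlg : ∀ k, l k ≫ pieceHom U (O x) = g x k := fun k =>
    MorphismProperty.Over.Hom.ext (IsOpenImmersion.lift_fac _ _ _)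
  haveI : ∀ k, IsAffine (W x k).left := hW x
  refine (Scheme.ProEt.topology X).superset_covering ?_
    (ofArrows_mem_topology (piece U (O x)) (W x) l fun y => ?_)
  · rw [Sieve.generate_le_iff]
    rintro _ _ ⟨k⟩
    show R (l k ≫ pieceHom U (O x))
    rw [hlg]
    exact hR x k
  · obtain ⟨k, w, hw⟩ := hs x ((O x).ι y) ((Scheme.Opens.range_ι (O x)).le ⟨y, rfl⟩)
    refine ⟨k, w, (O x).ι.isOpenEmbedding.injective ?_⟩
    show ((IsOpenImmersion.lift (O x).ι (g x k).left (hl k)) ≫ (O x).ι) w = _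
    rw [IsOpenImmersion.lift_fac]
    exact hw

variable {Z X : Scheme.{u}} (i : Z ⟶ X) [IsIntegralHom i] [UniversallyInjective i] [Surjective i]

theorem faithful_bcP : (ProEtS.bcP i).Faithful := ⟨fun {U V} f₁ f₂ h => by
  haveI : IsIntegralHom (pullback.fst U.hom i : ((ProEtS.bcP i).obj U).left ⟶ U.left) :=
    bcP_fst_prop i @IsIntegralHom ‹_› U
  haveI : UniversallyInjective (pullback.fst U.hom i : ((ProEtS.bcP i).obj U).left ⟶ U.left) :=
    bcP_fst_prop i @UniversallyInjective ‹_› U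
  haveI : Surjective (pullback.fst U.hom i : ((ProEtS.bcP i).obj U).left ⟶ U.left) :=
    bcP_fst_prop i @Surjective ‹_› U
  refine MorphismProperty.Over.Hom.ext (hom_unique
    (pullback.fst U.hom i : ((ProEtS.bcP i).obj U).left ⟶ U.left) V.hom _ _
    ((Over.w f₁.hom).trans (Over.w f₂.hom).symm) ?_)
  exact ((ProEtCont.isPullback_bcP_map i f₁).w.trans (by rw [h])).trans
    (ProEtCont.isPullback_bcP_map i f₂).w.symm⟩

theorem full_bcP : (ProEtS.bcP i).Full := ⟨fun {U V} φ => by
  haveI : IsIntegralHom (pullback.fst U.hom i : ((ProEtS.bcP i).obj U).left ⟶ U.left) :=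
    bcP_fst_prop i @IsIntegralHom ‹_› U
  haveI : UniversallyInjective (pullback.fst U.hom i : ((ProEtS.bcP i).obj U).left ⟶ U.left) :=
    bcP_fst_prop i @UniversallyInjective ‹_› U
  haveI : Surjective (pullback.fst U.hom i : ((ProEtS.bcP i).obj U).left ⟶ U.left) :=
    bcP_fst_prop i @Surjective ‹_› U
  have hw : φ.left ≫ pullback.snd V.hom i = pullback.snd U.hom i := Over.w φ.hom
  obtain ⟨f, ⟨hf1, hf2⟩, -⟩ := existsUnique_lift
    (pullback.fst U.hom i : ((ProEtS.bcP i).obj U).left ⟶ U.left) V.hom U.hom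
    (φ.left ≫ pullback.fst V.hom i) (by
      rw [Category.assoc, pullback.condition, reassoc_of% hw]
      exact pullback.condition.symm)
  refine ⟨MorphismProperty.Over.homMk f hf1, MorphismProperty.Over.Hom.ext (pullback.hom_ext ?_ ?_)⟩
  · exact ((ProEtCont.isPullback_bcP_map i _).w).symm.trans hf2
  · exact (Over.w ((ProEtS.bcP i).map _).hom).trans hw.symm⟩

theorem functorPushforward_mem_iff {U : X.ProEt} {S : Sieve U} :
    S.functorPushforward (ProEtS.bcP i) ∈ Scheme.ProEt.topology Z ((ProEtS.bcP i).obj U) ↔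
      S ∈ Scheme.ProEt.topology X U := by
  let G := ProEtS.bcP i
  haveI hG : ∀ W : X.ProEt, IsAffine W.left → IsAffine (G.obj W).left := fun W hW => by
    haveI : IsIntegralHom (pullback.fst W.hom i : (G.obj W).left ⟶ W.left) :=
      bcP_fst_prop i @IsIntegralHom ‹_› W
    haveI : IsAffine ((𝟭 Scheme.{u}).obj W.left) := hW
    exact isAffine_of_isAffineHom (pullback.fst W.hom i : (G.obj W).left ⟶ W.left)
  let q : ∀ W : X.ProEt, (G.obj W).left ⟶ W.left := fun W => pullback.fst W.hom i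
  haveI hqint : ∀ W, IsIntegralHom (q W) := fun W => bcP_fst_prop i @IsIntegralHom ‹_› W
  haveI hqsurj : ∀ W, Surjective (q W) := fun W => bcP_fst_prop i @Surjective ‹_› W
  constructor
  · intro h
    refine mem_topology_of_pieces S fun x => ?_
    obtain ⟨O, hO, hxO, -⟩ := exists_isAffineOpen_mem_and_subset (X := U.left) (x := x) (U := ⊤) trivial
    let O' : (G.obj U).left.Opens := q U ⁻¹ᵁ O
    have hO' : IsAffineOpen O' := hO.preimage (q U)
    haveI : IsAffine (piece (G.obj U) O').left := hO'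
    obtain ⟨n, W', g', hW', hR', hs'⟩ := exists_finite_affine (piece (G.obj U) O')
      ((S.functorPushforward G).pullback (pieceHom (G.obj U) O'))
      ((Scheme.ProEt.topology Z).pullback_stable _ h)
    choose W g hh hgS hfac using hR'
    have hcont : ∀ k (w : (W' k).left), (g k).left (q (W k) ((hh k).left w)) ∈ O := fun k w => by
      have e : (g k).left (q (W k) ((hh k).left w)) = q U ((G.map (g k)).left ((hh k).left w)) := by
        rw [← Scheme.Hom.comp_apply, ← Scheme.Hom.comp_apply (G.map (g k)).left]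
        exact congrArg (fun m => m ((hh k).left w)) (ProEtCont.isPullback_bcP_map i (g k)).w
      rw [e]
      have e2 := congrArg (fun m => m.left w) (hfac k)
      show (G.map (g k)).left ((hh k).left w) ∈ q U ⁻¹ᵁ O
      rw [show (G.map (g k)).left ((hh k).left w) = O'.ι ((g' k).left w) from e2.symm]
      exact (Scheme.Opens.range_ι O').le ⟨_, rfl⟩
    have hfin : ∀ k, ∃ (m : ℕ) (P : Fin m → (W k).left.Opens), (∀ j, IsAffineOpen (P j)) ∧
        (∀ j, P j ≤ (g k).left ⁻¹ᵁ O) ∧ ∀ w : (W' k).left, ∃ j, q (W k) ((hh k).left w) ∈ P j := by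
      intro k
      choose P hP hwP hPle using fun w : (W' k).left => exists_isAffineOpen_mem_and_subset
        (x := q (W k) ((hh k).left w)) (U := (g k).left ⁻¹ᵁ O) (hcont k w)
      haveI : IsAffine (W' k).left := hW' k
      let F : (W' k).left ⟶ (W k).left := (hh k).left ≫ q (W k)
      obtain ⟨s, hs⟩ := isCompact_univ.elim_finite_subcover (fun w : (W' k).left => ((F ⁻¹ᵁ P w : (W' k).left.Opens) : Set (W' k).left))
        (fun w => (F ⁻¹ᵁ P w).2) (fun w _ => Set.mem_iUnion.2 ⟨w, hwP w⟩)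
      refine ⟨s.card, fun j => P (s.equivFin.symm j), fun j => hP _, fun j => hPle _, fun w => ?_⟩
      obtain ⟨w', hw's, hw'⟩ := Set.mem_iUnion₂.1 (hs (Set.mem_univ w))
      exact ⟨s.equivFin ⟨w', hw's⟩, by simp only [Equiv.symm_apply_apply]; exact hw'⟩
    choose m P hP hPle hcov using hfin
    refine ⟨O, hxO, hO, ULift.{u} (Σ k : Fin n, Fin (m k)), inferInstance,
      fun a => piece (W a.down.1) (P a.down.1 a.down.2),
      fun a => pieceHom (W a.down.1) (P a.down.1 a.down.2) ≫ g a.down.1, fun a => hP _ _,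
      fun a => S.downward_closed (hgS _) _, fun a => ?_, fun y hy => ?_⟩
    · rintro _ ⟨w, rfl⟩
      exact hPle a.down.1 a.down.2 ((Scheme.Opens.range_ι (P a.down.1 a.down.2)).le ⟨w, rfl⟩)
    · obtain ⟨z, rfl⟩ := (q U).surjective y
      obtain ⟨z', rfl⟩ := (Scheme.Opens.range_ι O').ge (show z ∈ O' from hy)
      obtain ⟨k, w, rfl⟩ := hs' z'
      obtain ⟨j, hj⟩ := hcov k w
      obtain ⟨w₀, hw₀⟩ := (Scheme.Opens.range_ι (P k j)).ge hj
      refine ⟨⟨k, j⟩, w₀, ?_⟩
      show (g k).left ((P k j).ι w₀) = _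
      rw [hw₀, ← Scheme.Hom.comp_apply]
      refine (congrArg (fun m => m ((hh k).left w)) (ProEtCont.isPullback_bcP_map i (g k)).w).trans ?_
      rw [Scheme.Hom.comp_apply]
      exact congrArg (q U) (congrArg (fun m => m.left w) (hfac k)).symm
  · intro h
    refine mem_topology_of_pieces _ fun z => ?_
    obtain ⟨O, hO, hxO, -⟩ := exists_isAffineOpen_mem_and_subset (X := U.left) (x := q U z) (U := ⊤) trivial
    haveI : IsAffine (piece U O).left := hO
    obtain ⟨n, W, g, hW, hR, hs⟩ := exists_finite_affine (piece U O) (S.pullback (pieceHom U O))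
      ((Scheme.ProEt.topology X).pullback_stable _ h)
    refine ⟨q U ⁻¹ᵁ O, hxO, hO.preimage (q U), ULift.{u} (Fin n), inferInstance, fun k => G.obj (W k.down),
      fun k => G.map (g k.down ≫ pieceHom U O), fun k => hG _ (hW k.down),
      fun k => ⟨W k.down, g k.down ≫ pieceHom U O, 𝟙 _, hR k.down, (Category.id_comp _).symm⟩, fun k => ?_,
      fun y hy => ?_⟩
    · rintro _ ⟨w, rfl⟩
      show q U ((G.map (g k.down ≫ pieceHom U O)).left w) ∈ O
      rw [← Scheme.Hom.comp_apply]
      refine (congrArg (· ∈ O) (congrArg (fun m => m w)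
        (ProEtCont.isPullback_bcP_map i (g k.down ≫ pieceHom U O)).w)).mp ?_
      exact (Scheme.Opens.range_ι O).le ⟨(g k.down).left (q (W k.down) w), rfl⟩
    · obtain ⟨y', hy'⟩ := (Scheme.Opens.range_ι O).ge (show q U y ∈ O from hy)
      obtain ⟨k, w, rfl⟩ := hs y'
      obtain ⟨p, -, hp⟩ := Scheme.exists_preimage_of_isPullback
        (ProEtCont.isPullback_bcP_map i (g k ≫ pieceHom U O)) w y hy'
      exact ⟨⟨k⟩, p, hp⟩

theorem isCoverDense_bcP : (ProEtS.bcP i).IsCoverDense (Scheme.ProEt.topology Z) := by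
  refine ⟨fun D => mem_topology_of_pieces _ fun x => ?_⟩
  obtain ⟨P, hP, hxP, -⟩ := exists_isAffineOpen_mem_and_subset (X := X) (x := i (D.hom x)) (U := ⊤) trivial
  obtain ⟨O, hO, hxO, hOle⟩ := exists_isAffineOpen_mem_and_subset (X := D.left) (x := x)
    (U := D.hom ⁻¹ᵁ (i ⁻¹ᵁ P)) hxP
  haveI : IsAffine P.toScheme := hP
  haveI : IsAffine (i ⁻¹ᵁ P).toScheme := hP.preimage i
  haveI : IsAffine O.toScheme := hO
  haveI : IsIntegralHom (i ∣_ P) := IsZariskiLocalAtTarget.restrict ‹_› P
  haveI : UniversallyInjective (i ∣_ P) := IsZariskiLocalAtTarget.restrict ‹_› P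
  haveI : Surjective (i ∣_ P) := IsZariskiLocalAtTarget.restrict ‹_› P
  let d := D.hom.resLE (i ⁻¹ᵁ P) O hOle
  haveI : WeaklyEtale d := by
    haveI : WeaklyEtale (d ≫ (i ⁻¹ᵁ P).ι) := by
      rw [Scheme.Hom.resLE_comp_ι]; infer_instance
    exact WeaklyEtale.of_comp d (i ⁻¹ᵁ P).ι
  let A : CommRingCat.{u} := Γ(P.toScheme, ⊤)
  let B : CommRingCat.{u} := Γ((i ⁻¹ᵁ P).toScheme, ⊤)
  let W : CommRingCat.{u} := Γ(O.toScheme, ⊤)
  letI : Algebra A B := (i ∣_ P).appTop.hom.toAlgebra
  have hi : Spec.map (CommRingCat.ofHom (algebraMap A B)) =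
      (i ⁻¹ᵁ P).toScheme.isoSpec.inv ≫ i ∣_ P ≫ P.toScheme.isoSpec.hom := by
    show Spec.map (i ∣_ P).appTop = _
    rw [← Scheme.isoSpec_hom_naturality, Iso.inv_hom_id_assoc]
  haveI : IsIntegralHom (Spec.map (CommRingCat.ofHom (algebraMap A B))) := by
    rw [hi]; infer_instance
  haveI : UniversallyInjective (Spec.map (CommRingCat.ofHom (algebraMap A B))) := by
    rw [hi, MorphismProperty.cancel_left_of_respectsIso (P := @UniversallyInjective),
      MorphismProperty.cancel_right_of_respectsIso (P := @UniversallyInjective)]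
    assumption
  haveI : Surjective (Spec.map (CommRingCat.ofHom (algebraMap A B))) := by
    rw [hi]; infer_instance
  haveI : Algebra.IsIntegral A B := ⟨IsIntegralHom.SpecMap_iff.1 ‹_›⟩
  letI : Algebra B W := d.appTop.hom.toAlgebra
  haveI : Algebra.WeaklyEtale B W := WContr.weaklyEtale_appTop d
  obtain ⟨W', _, _, _, _, hff', -, hind'⟩ := Groth.Agent.S0176.result B W
  obtain ⟨T, _, _, hff, hindT, hwc⟩ := exists_wContractible W'
  letI : Algebra B T := ((algebraMap W' T).comp (algebraMap B W')).toAlgebra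
  haveI : IsScalarTower B W' T := IsScalarTower.of_algebraMap_eq fun _ => rfl
  letI : Algebra W T := ((algebraMap W' T).comp (algebraMap W W')).toAlgebra
  haveI : IsScalarTower W W' T := IsScalarTower.of_algebraMap_eq fun _ => rfl
  haveI : Module.FaithfullyFlat W T := Module.FaithfullyFlat.trans W W' T
  haveI : IsScalarTower B W T := IsScalarTower.of_algebraMap_eq fun b => by
    show algebraMap W' T (algebraMap B W' b) = algebraMap W' T (algebraMap W W' (algebraMap B W b))
    rw [← IsScalarTower.algebraMap_apply B W W']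
  have hBT : EtPBC.IsIndEtale B T := Groth.Agent.S0734.result B W' T hind' hindT
  letI : Algebra A T := ((algebraMap B T).comp (algebraMap A B)).toAlgebra
  haveI : IsScalarTower A B T := IsScalarTower.of_algebraMap_eq fun _ => rfl
  obtain ⟨C, _, _, hindC, ⟨e⟩⟩ := exists_descend (A := A) hBT (WContr.hasEtaleRetractions hwc)
  haveI : Algebra.WeaklyEtale A C := Groth.Agent.S0736.result A C hindC
  let cA : A ⟶ CommRingCat.of C := CommRingCat.ofHom (algebraMap A C)
  haveI : WeaklyEtale (Spec.map cA) := (Groth.Agent.WeakEt.specMap_iff cA).2 (by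
    change @Algebra.WeaklyEtale A C _ _ (algebraMap A C).toAlgebra
    rw [show (algebraMap A C).toAlgebra = (inferInstance : Algebra A C) from
      Algebra.algebra_ext _ _ fun _ => rfl]
    infer_instance)
  let cX : Spec (CommRingCat.of C) ⟶ X := Spec.map cA ≫ P.toScheme.isoSpec.inv ≫ P.ι
  let bZ : Spec (CommRingCat.of T) ⟶ Z :=
    Spec.map (CommRingCat.ofHom (algebraMap B T)) ≫ (i ⁻¹ᵁ P).toScheme.isoSpec.inv ≫ (i ⁻¹ᵁ P).ι
  let bC : Spec (CommRingCat.of T) ⟶ Spec (CommRingCat.of C) :=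
    Spec.map (CommRingCat.ofHom ((e.toAlgHom.toRingHom).comp
      (Algebra.TensorProduct.includeRight : C →ₐ[A] B ⊗[A] C).toRingHom))
  have sq₁ : IsPullback bC (Spec.map (CommRingCat.ofHom (algebraMap B T))) (Spec.map cA)
      (Spec.map (CommRingCat.ofHom (algebraMap A B))) := by
    have h := (isPullback_SpecMap_of_isPushout _ _ _ _ (CommRingCat.isPushout_tensorProduct A B C)).flip
    refine h.of_iso (Scheme.Spec.mapIso e.toRingEquiv.symm.toCommRingCatIso.op) (Iso.refl _) (Iso.refl _)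
      (Iso.refl _) ?_ ?_ (by simp [cA]) (by simp)
    · simp only [Scheme.Spec_map, Functor.mapIso_hom, Iso.op_hom, Quiver.Hom.unop_op, Iso.refl_hom, Category.comp_id,
        bC, ← Spec.map_comp]
      congr 1
      exact CommRingCat.hom_ext (RingHom.ext fun c => (e.symm_apply_apply _).symm)
    · simp only [Scheme.Spec_map, Functor.mapIso_hom, Iso.op_hom, Quiver.Hom.unop_op, Iso.refl_hom, Category.comp_id,
        ← Spec.map_comp]
      congr 1
      exact CommRingCat.hom_ext (RingHom.ext fun b => (e.symm.commutes b).symm)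
  have sq₂ : IsPullback (Spec.map (CommRingCat.ofHom (algebraMap A B)))
      ((i ⁻¹ᵁ P).toScheme.isoSpec.inv ≫ (i ⁻¹ᵁ P).ι) (P.toScheme.isoSpec.inv ≫ P.ι) i := by
    refine (isPullback_morphismRestrict i P).of_iso (i ⁻¹ᵁ P).toScheme.isoSpec P.toScheme.isoSpec (Iso.refl _)
      (Iso.refl _) ?_ (by simp) (by simp) (by simp)
    rw [hi, Iso.hom_inv_id_assoc]
  have sq : IsPullback bC bZ cX i := sq₁.paste_vert sq₂
  haveI : WeaklyEtale cX := inferInstance
  let C₀ : X.ProEt := Scheme.ProEt.mk cX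
  haveI : WeaklyEtale bZ := MorphismProperty.of_isPullback sq (‹WeaklyEtale cX›)
  let T₀ : Z.ProEt := Scheme.ProEt.mk bZ
  let toG : T₀ ⟶ (ProEtS.bcP i).obj C₀ := MorphismProperty.Over.homMk sq.isoPullback.hom sq.isoPullback_hom_snd
  let fromG : (ProEtS.bcP i).obj C₀ ⟶ T₀ := MorphismProperty.Over.homMk sq.isoPullback.inv sq.isoPullback_inv_snd
  let gO : Spec (CommRingCat.of T) ⟶ O.toScheme :=
    Spec.map (CommRingCat.ofHom (algebraMap W T)) ≫ O.toScheme.isoSpec.inv
  have hgO : gO ≫ O.ι ≫ D.hom = bZ := by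
    rw [← Scheme.Hom.resLE_comp_ι D.hom hOle]
    show (Spec.map _ ≫ O.toScheme.isoSpec.inv) ≫ d ≫ (i ⁻¹ᵁ P).ι = bZ
    rw [Category.assoc, ← Scheme.isoSpec_inv_naturality_assoc, ← Spec.map_comp_assoc]
    congr 3
    exact CommRingCat.hom_ext (RingHom.ext fun b => (IsScalarTower.algebraMap_apply B W T b).symm)
  let f : T₀ ⟶ D := MorphismProperty.Over.homMk (gO ≫ O.ι) (by rw [Category.assoc]; exact hgO)
  refine ⟨O, hxO, hO, PUnit, inferInstance, fun _ => T₀, fun _ => f, fun _ => inferInstanceAs (IsAffine (Spec _)),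
    fun _ => ⟨⟨C₀, toG, fromG ≫ f, ?_⟩⟩, fun _ => ?_, fun y hy => ?_⟩
  · rw [← Category.assoc, show toG ≫ fromG = 𝟙 T₀ from MorphismProperty.Over.Hom.ext sq.isoPullback.hom_inv_id,
      Category.id_comp]
  · rintro _ ⟨w, rfl⟩
    exact (Scheme.Opens.range_ι O).le ⟨gO w, rfl⟩
  · obtain ⟨y', rfl⟩ := (Scheme.Opens.range_ι O).ge hy
    haveI : Surjective (Spec.map (CommRingCat.ofHom (algebraMap W T))) :=
      ⟨fun p => PrimeSpectrum.comap_surjective_of_faithfullyFlat (B := T) p⟩
    obtain ⟨w, hw⟩ := gO.surjective y'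
    exact ⟨⟨⟩, w, by show (gO ≫ O.ι) w = _; rw [Scheme.Hom.comp_apply, hw]⟩

theorem isDenseSubsite_bcP :
    (ProEtS.bcP i).IsDenseSubsite (Scheme.ProEt.topology X) (Scheme.ProEt.topology Z) := by
  haveI := full_bcP i
  haveI := faithful_bcP i
  exact ⟨isCoverDense_bcP i, inferInstance, inferInstance, functorPushforward_mem_iff i⟩

theorem pushP_isEquivalence [ProEtS.PCont i] : (ProEtS.pushP i).IsEquivalence := by
  haveI := isDenseSubsite_bcP i
  exact inferInstance

end Groth.Agent.ProEtInv
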