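import Groth.Agent.ProEtInv.Quot
import Groth.Agent.ProEtInv.Site
import Groth.Agent.IndEtLib.Cat
import Groth.Agent.S0778
import Mathlib

/-!
# The pro-étale site of a closed subscheme: density and local fullness
-/

set_option autoImplicit false
set_option linter.style.haveILetI false
set_option backward.isDefEq.respectTransparency false
set_option maxHeartbeats 800000
set_option synthInstance.maxHeartbeats 100000

universe u

open CategoryTheory CategoryTheory.Limits AlgebraicGeometry Opposite TensorProduct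

namespace Groth.Agent.ProEtInv

open Groth.Agent.WContr

variable {Z X : Scheme.{u}} (i : Z ⟶ X) [IsClosedImmersion i]

/-- affine weakly étale schemes over a closed subscheme have w-contractible covers with henselian lifts -/
theorem exists_wc_lift (P : X.Opens) (hP : IsAffineOpen P) (O : Scheme.{u}) [IsAffine O]
    (d : O ⟶ (i ⁻¹ᵁ P).toScheme) [WeaklyEtale d] :
    ∃ (C T : CommRingCat.{u}) (cP : Spec C ⟶ P.toScheme) (_ : WeaklyEtale cP) (bZ : Spec T ⟶ Z)
      (_ : WeaklyEtale bZ) (bC : Spec T ⟶ Spec C) (g : Spec T ⟶ O),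
      Surjective g ∧ EtPBC.IsWContractible T ∧ (∀ x : Spec C, IsClosed ({x} : Set (Spec C)) → x ∈ Set.range bC) ∧ IsPullback bC bZ (cP ≫ P.ι) i ∧ g ≫ d ≫ (i ⁻¹ᵁ P).ι = bZ ∧
      ∀ (V : Scheme.{u}) [IsAffine V] (v : V ⟶ P.toScheme) [WeaklyEtale v] (φ : Spec T ⟶ V),
        φ ≫ v = bC ≫ cP → ∃ f : Spec C ⟶ V, f ≫ v = cP ∧ bC ≫ f = φ := by
  haveI : IsAffine P.toScheme := hP
  haveI : IsAffine (i ⁻¹ᵁ P).toScheme := hP.preimage i
  haveI : IsClosedImmersion (i ∣_ P) := IsZariskiLocalAtTarget.restrict ‹_› P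
  let A : CommRingCat.{u} := Γ(P.toScheme, ⊤)
  let B : CommRingCat.{u} := Γ((i ⁻¹ᵁ P).toScheme, ⊤)
  let W : CommRingCat.{u} := Γ(O, ⊤)
  letI : Algebra A B := (i ∣_ P).appTop.hom.toAlgebra
  have hAB : Function.Surjective (algebraMap A B) :=
    (IsClosedImmersion.isAffine_surjective_of_isAffine (i ∣_ P)).2
  have hi : Spec.map (CommRingCat.ofHom (algebraMap A B)) =
      (i ⁻¹ᵁ P).toScheme.isoSpec.inv ≫ i ∣_ P ≫ P.toScheme.isoSpec.hom := by
    show Spec.map (i ∣_ P).appTop = _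
    rw [← Scheme.isoSpec_hom_naturality, Iso.inv_hom_id_assoc]
  letI : Algebra B W := d.appTop.hom.toAlgebra
  haveI : Algebra.WeaklyEtale B W := WContr.weaklyEtale_appTop d
  obtain ⟨W', _, _, _, _, hff', -, hind'⟩ := Groth.Agent.S0176.result B W
  obtain ⟨T, _, _, hff, hindT, hwc⟩ := exists_wContractible W'
  letI : Algebra B T := ((algebraMap W' T).comp (algebraMap B W')).toAlgebra
  haveI : IsScalarTower B W' T := IsScalarTower.of_algebraMap_eq fun _ => rfl
  letI : Algebra W T := ((algebraMap W' T).comp (algebraMap W W')).toAlgebra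
  haveI : IsScalarTower W W' T := IsScalarTower.of_algebraMap_eq fun _ => rfl
  haveI : Module.FaithfullyFlat W T := Module.FaithfullyFlat.trans W W' T
  haveI : IsScalarTower B W T := IsScalarTower.of_algebraMap_eq fun b => by
    show algebraMap W' T (algebraMap B W' b) = algebraMap W' T (algebraMap W W' (algebraMap B W b))
    rw [← IsScalarTower.algebraMap_apply B W W']
  have hBT : EtPBC.IsIndEtale B T := Groth.Agent.S0734.result B W' T hind' hindT
  letI : Algebra A T := ((algebraMap B T).comp (algebraMap A B)).toAlgebra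
  haveI : IsScalarTower A B T := IsScalarTower.of_algebraMap_eq fun _ => rfl
  let I : Ideal A := RingHom.ker (algebraMap A B)
  let eI : A ⧸ I ≃+* B := RingHom.quotientKerEquivOfSurjective hAB
  letI : Algebra (A ⧸ I) T := ((algebraMap B T).comp eI.toRingHom).toAlgebra
  haveI : IsScalarTower A (A ⧸ I) T := IsScalarTower.of_algebraMap_eq fun _ => rfl
  have hindI : EtPBC.IsIndEtale (A ⧸ I) T := by
    rw [IndEtLib.isIndEtale_iff]
    have h1 := (IndEtLib.isIndEtale_iff B T).1 hBT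
    have e : CommRingCat.ofHom (algebraMap (A ⧸ I) T) =
        (eI.toCommRingCatIso : CommRingCat.of (A ⧸ I) ≅ CommRingCat.of B).hom ≫
          CommRingCat.ofHom (algebraMap B T) := rfl
    rw [e]
    exact ((MorphismProperty.ind.{u} IndEtLib.etaleP).cancel_left_of_respectsIso _ _).2 h1
  obtain ⟨C, _, _, π, hindC, hπs, hπk, hjac, hlift⟩ :=
    exists_lift_wc I T hindI ((Groth.Agent.S0778.result T).1 hwc)
  haveI : Algebra.WeaklyEtale A C := Groth.Agent.S0736.result A C hindC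
  let cA : A ⟶ CommRingCat.of C := CommRingCat.ofHom (algebraMap A C)
  haveI : WeaklyEtale (Spec.map cA) := (Groth.Agent.WeakEt.specMap_iff cA).2 (by
    change @Algebra.WeaklyEtale A C _ _ (algebraMap A C).toAlgebra
    rw [show (algebraMap A C).toAlgebra = (inferInstance : Algebra A C) from
      Algebra.algebra_ext _ _ fun _ => rfl]
    infer_instance)
  let cP : Spec (CommRingCat.of C) ⟶ P.toScheme := Spec.map cA ≫ P.toScheme.isoSpec.inv
  haveI : WeaklyEtale cP := inferInstance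
  let bC : Spec (CommRingCat.of T) ⟶ Spec (CommRingCat.of C) := Spec.map (CommRingCat.ofHom π.toRingHom)
  let bZ : Spec (CommRingCat.of T) ⟶ Z :=
    Spec.map (CommRingCat.ofHom (algebraMap B T)) ≫ (i ⁻¹ᵁ P).toScheme.isoSpec.inv ≫ (i ⁻¹ᵁ P).ι
  let Φ : B ⊗[A] C →ₐ[B] T := Algebra.TensorProduct.lift (Algebra.ofId B T) π fun _ _ => Commute.all _ _
  have hincl : ∀ z : B ⊗[A] C, ∃ y : C, (1 : B) ⊗ₜ[A] y = z := fun z => by
    induction z using TensorProduct.induction_on with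
    | zero => exact ⟨0, tmul_zero _ _⟩
    | tmul b y =>
      obtain ⟨a, rfl⟩ := hAB b
      refine ⟨a • y, ?_⟩
      rw [tmul_smul, smul_tmul', ← Algebra.algebraMap_eq_smul_one]
    | add u v hu hv =>
      obtain ⟨p, rfl⟩ := hu
      obtain ⟨q, rfl⟩ := hv
      exact ⟨p + q, tmul_add _ _ _⟩
  have hΦ : Function.Bijective Φ := by
    refine ⟨(injective_iff_map_eq_zero _).2 fun z hz => ?_, fun t => ?_⟩
    · obtain ⟨y, rfl⟩ := hincl z
      have hy : y ∈ RingHom.ker π.toRingHom := by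
        rw [RingHom.mem_ker]
        simpa [Φ] using hz
      rw [hπk] at hy
      have hle : I.map (algebraMap A C) ≤
          RingHom.ker (Algebra.TensorProduct.includeRight : C →ₐ[A] B ⊗[A] C).toRingHom :=
        Ideal.map_le_iff_le_comap.2 fun a ha => by
          show (1 : B) ⊗ₜ[A] algebraMap A C a = 0
          rw [Algebra.algebraMap_eq_smul_one, tmul_smul, smul_tmul', ← Algebra.algebraMap_eq_smul_one,
            show algebraMap A B a = 0 from ha, zero_tmul]
      exact hle hy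
    · obtain ⟨y, rfl⟩ := hπs t
      exact ⟨1 ⊗ₜ y, by simp [Φ]⟩
  let e : B ⊗[A] C ≃ₐ[B] T := AlgEquiv.ofBijective Φ hΦ
  have heπ : ∀ c, e ((1 : B) ⊗ₜ[A] c) = π c := fun c => by simp [e, Φ]
  have sq₁ : IsPullback bC (Spec.map (CommRingCat.ofHom (algebraMap B T))) (Spec.map cA)
      (Spec.map (CommRingCat.ofHom (algebraMap A B))) := by
    have h := (isPullback_SpecMap_of_isPushout _ _ _ _ (CommRingCat.isPushout_tensorProduct A B C)).flip
    refine h.of_iso (Scheme.Spec.mapIso e.toRingEquiv.symm.toCommRingCatIso.op) (Iso.refl _) (Iso.refl _)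
      (Iso.refl _) ?_ ?_ (by simp [cA]) (by simp)
    · simp only [Scheme.Spec_map, Functor.mapIso_hom, Iso.op_hom, Quiver.Hom.unop_op, Iso.refl_hom, Category.comp_id,
        bC, ← Spec.map_comp]
      congr 1
      refine CommRingCat.hom_ext (RingHom.ext fun c => ?_)
      show _ = e.symm (π c)
      rw [← heπ, e.symm_apply_apply]
      rfl
    · simp only [Scheme.Spec_map, Functor.mapIso_hom, Iso.op_hom, Quiver.Hom.unop_op, Iso.refl_hom, Category.comp_id,
        ← Spec.map_comp]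
      congr 1
      exact CommRingCat.hom_ext (RingHom.ext fun b => (e.symm.commutes b).symm)
  have sq₂ : IsPullback (Spec.map (CommRingCat.ofHom (algebraMap A B)))
      ((i ⁻¹ᵁ P).toScheme.isoSpec.inv ≫ (i ⁻¹ᵁ P).ι) (P.toScheme.isoSpec.inv ≫ P.ι) i := by
    refine (isPullback_morphismRestrict i P).of_iso (i ⁻¹ᵁ P).toScheme.isoSpec P.toScheme.isoSpec (Iso.refl _)
      (Iso.refl _) ?_ (by simp) (by simp) (by simp)
    rw [hi, Iso.hom_inv_id_assoc]
  have sq : IsPullback bC bZ (cP ≫ P.ι) i := by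
    simpa only [cP, Category.assoc] using sq₁.paste_vert sq₂
  haveI : WeaklyEtale bZ := MorphismProperty.of_isPullback sq (inferInstance : WeaklyEtale (cP ≫ P.ι))
  let gO : Spec (CommRingCat.of T) ⟶ O :=
    Spec.map (CommRingCat.ofHom (algebraMap W T)) ≫ O.isoSpec.inv
  haveI : Surjective (Spec.map (CommRingCat.ofHom (algebraMap W T))) :=
    ⟨fun p => PrimeSpectrum.comap_surjective_of_faithfullyFlat (B := T) p⟩
  refine ⟨CommRingCat.of C, CommRingCat.of T, cP, inferInstance, bZ, inferInstance, bC, gO, inferInstance, hwc, ?_, sq,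
    ?_, fun V _ v _ φ hφ => ?_⟩
  · intro x hx
    have hm : x.asIdeal.IsMaximal := (PrimeSpectrum.isClosed_singleton_iff_isMaximal x).1 hx
    have hmem : x ∈ PrimeSpectrum.zeroLocus (RingHom.ker π.toRingHom : Set C) := fun y hy => by
      have h := hjac (hπk ▸ hy)
      rw [Ring.jacobson_eq_sInf_isMaximal, Submodule.mem_sInf] at h
      exact h _ hm
    rw [← range_comap_of_surjective _ _ (show Function.Surjective π.toRingHom from hπs)] at hmem
    exact hmem
  · show (Spec.map _ ≫ O.isoSpec.inv) ≫ d ≫ (i ⁻¹ᵁ P).ι = bZ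
    rw [Category.assoc, ← Scheme.isoSpec_inv_naturality_assoc, ← Spec.map_comp_assoc]
    congr 3
    exact CommRingCat.hom_ext (RingHom.ext fun b => (IsScalarTower.algebraMap_apply B W T b).symm)
  · letI : Algebra A Γ(V, ⊤) := v.appTop.hom.toAlgebra
    haveI : Algebra.WeaklyEtale A Γ(V, ⊤) := WContr.weaklyEtale_appTop v
    obtain ⟨ψ, hψ⟩ := Spec.map_surjective (φ ≫ V.isoSpec.hom)
    have hvψ : v.appTop ≫ ψ = cA ≫ CommRingCat.ofHom π.toRingHom := Spec.map_injective (by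
      rw [Spec.map_comp, Spec.map_comp, hψ, Category.assoc, Scheme.isoSpec_hom_naturality, reassoc_of% hφ]
      simp [cP, bC])
    let ψ' : Γ(V, ⊤) →ₐ[A] T :=
      { ψ.hom with
        commutes' := fun a => (ConcreteCategory.congr_hom hvψ a).trans (π.commutes a) }
    obtain ⟨f, hf⟩ := hlift Γ(V, ⊤) ψ'
    refine ⟨Spec.map (CommRingCat.ofHom f.toRingHom) ≫ V.isoSpec.inv, ?_, ?_⟩
    · rw [Category.assoc, ← Scheme.isoSpec_inv_naturality, ← Spec.map_comp_assoc]
      congr 2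
      exact CommRingCat.hom_ext (RingHom.ext f.commutes)
    · show Spec.map (CommRingCat.ofHom π.toRingHom) ≫ Spec.map (CommRingCat.ofHom f.toRingHom) ≫ _ = φ
      rw [← Spec.map_comp_assoc, Iso.comp_inv_eq, ← hψ]
      congr 1
      exact CommRingCat.hom_ext (RingHom.ext fun r => congr($hf r))

theorem isCoverDense_bcP_closed : (ProEtS.bcP i).IsCoverDense (Scheme.ProEt.topology Z) := by
  refine ⟨fun D => mem_topology_of_pieces _ fun x => ?_⟩
  obtain ⟨P, hP, hxP, -⟩ := exists_isAffineOpen_mem_and_subset (X := X) (x := i (D.hom x)) (U := ⊤) trivial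
  obtain ⟨O, hO, hxO, hOle⟩ := exists_isAffineOpen_mem_and_subset (X := D.left) (x := x)
    (U := D.hom ⁻¹ᵁ (i ⁻¹ᵁ P)) hxP
  haveI : IsAffine O.toScheme := hO
  let d := D.hom.resLE (i ⁻¹ᵁ P) O hOle
  haveI : WeaklyEtale d := by
    haveI : WeaklyEtale (d ≫ (i ⁻¹ᵁ P).ι) := by
      rw [Scheme.Hom.resLE_comp_ι]; infer_instance
    exact WeaklyEtale.of_comp d (i ⁻¹ᵁ P).ι
  obtain ⟨C, T, cP, _, bZ, _, bC, g, _, -, -, sq, hg, -⟩ := exists_wc_lift i P hP O.toScheme d
  let C₀ : X.ProEt := Scheme.ProEt.mk (cP ≫ P.ι)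
  let T₀ : Z.ProEt := Scheme.ProEt.mk bZ
  let toG : T₀ ⟶ (ProEtS.bcP i).obj C₀ := MorphismProperty.Over.homMk sq.isoPullback.hom sq.isoPullback_hom_snd
  let fromG : (ProEtS.bcP i).obj C₀ ⟶ T₀ := MorphismProperty.Over.homMk sq.isoPullback.inv sq.isoPullback_inv_snd
  let f : T₀ ⟶ D := MorphismProperty.Over.homMk (g ≫ O.ι) (by
    rw [Category.assoc, ← Scheme.Hom.resLE_comp_ι D.hom hOle]; exact hg)
  refine ⟨O, hxO, hO, PUnit, inferInstance, fun _ => T₀, fun _ => f, fun _ => inferInstanceAs (IsAffine (Spec _)),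
    fun _ => ⟨⟨C₀, toG, fromG ≫ f, ?_⟩⟩, fun _ => ?_, fun y hy => ?_⟩
  · rw [← Category.assoc, show toG ≫ fromG = 𝟙 T₀ from MorphismProperty.Over.Hom.ext sq.isoPullback.hom_inv_id,
      Category.id_comp]
  · rintro _ ⟨w, rfl⟩
    exact (Scheme.Opens.range_ι O).le ⟨g w, rfl⟩
  · obtain ⟨y', rfl⟩ := (Scheme.Opens.range_ι O).ge hy
    obtain ⟨w, hw⟩ := g.surjective y'
    exact ⟨⟨⟩, w, by show (g ≫ O.ι) w = _; rw [Scheme.Hom.comp_apply, hw]⟩

theorem isLocallyFull_bcP_closed : (ProEtS.bcP i).IsLocallyFull (Scheme.ProEt.topology Z) := by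
  refine ⟨fun {U V} φ => mem_topology_of_pieces _ fun z => ?_⟩
  let G := ProEtS.bcP i
  let qU : (G.obj U).left ⟶ U.left := pullback.fst U.hom i
  let qV : (G.obj V).left ⟶ V.left := pullback.fst V.hom i
  let sU : (G.obj U).left ⟶ Z := pullback.snd U.hom i
  have hsq : qU ≫ U.hom = sU ≫ i := pullback.condition
  have hw : φ.left ≫ qV ≫ V.hom = sU ≫ i := by
    rw [show qV ≫ V.hom = pullback.snd V.hom i ≫ i from pullback.condition]
    exact (Category.assoc _ _ _).symm.trans (congrArg (· ≫ i) (Over.w φ.hom))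
  obtain ⟨P, hP, hzP, -⟩ := exists_isAffineOpen_mem_and_subset (X := X) (x := i (sU z)) (U := ⊤) trivial
  obtain ⟨Ua, hUa, hzUa, hUaP⟩ := exists_isAffineOpen_mem_and_subset (X := U.left) (x := qU z)
    (U := U.hom ⁻¹ᵁ P) (by show (qU ≫ U.hom) z ∈ P; rw [hsq]; exact hzP)
  obtain ⟨Vb, hVb, hzVb, hVbP⟩ := exists_isAffineOpen_mem_and_subset (X := V.left) (x := qV (φ.left z))
    (U := V.hom ⁻¹ᵁ P) (by
      show (φ.left ≫ qV ≫ V.hom) z ∈ P
      rw [hw]
      exact hzP)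
  obtain ⟨O, hO, hzO, hOle⟩ := exists_isAffineOpen_mem_and_subset (X := (G.obj U).left) (x := z)
    (U := qU ⁻¹ᵁ Ua ⊓ (φ.left ≫ qV) ⁻¹ᵁ Vb) ⟨hzUa, hzVb⟩
  haveI : IsAffine O.toScheme := hO
  haveI : IsAffine Ua.toScheme := hUa
  haveI : IsAffine Vb.toScheme := hVb
  have hOs : O ≤ sU ⁻¹ᵁ (i ⁻¹ᵁ P) := fun y hy => by
    show i (sU y) ∈ P
    rw [← Scheme.Hom.comp_apply, ← hsq, Scheme.Hom.comp_apply]
    exact hUaP (hOle hy).1
  haveI : WeaklyEtale sU := (G.obj U).prop
  let d := sU.resLE (i ⁻¹ᵁ P) O hOs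
  haveI : WeaklyEtale d := by
    haveI : WeaklyEtale (d ≫ (i ⁻¹ᵁ P).ι) := by
      rw [Scheme.Hom.resLE_comp_ι]; infer_instance
    exact WeaklyEtale.of_comp d (i ⁻¹ᵁ P).ι
  obtain ⟨C, T, cP, _, bZ, _, bC, g, _, -, -, sq, hg, hlift⟩ := exists_wc_lift i P hP O.toScheme d
  have hgs : g ≫ O.ι ≫ sU = bZ := by rw [← Scheme.Hom.resLE_comp_ι sU hOs]; exact hg
  have key : ∀ (E : X.ProEt) (Eo : E.left.Opens) (hEo : IsAffineOpen Eo) (hle : Eo ≤ E.hom ⁻¹ᵁ P)
      (ψ : (G.obj U).left ⟶ E.left) (hψ : ψ ≫ E.hom = sU ≫ i) (hOE : O ≤ ψ ⁻¹ᵁ Eo),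
      ∃ f : Spec C ⟶ E.left, f ≫ E.hom = cP ≫ P.ι ∧ bC ≫ f = g ≫ O.ι ≫ ψ := by
    intro E Eo hEo hle ψ hψ hOE
    haveI : IsAffine Eo.toScheme := hEo
    haveI : WeaklyEtale (E.hom.resLE P Eo hle) := by
      haveI : WeaklyEtale (E.hom.resLE P Eo hle ≫ P.ι) := by
        rw [Scheme.Hom.resLE_comp_ι]; infer_instance
      exact WeaklyEtale.of_comp _ P.ι
    obtain ⟨f, hf1, hf2⟩ := hlift Eo.toScheme (E.hom.resLE P Eo hle) (g ≫ ψ.resLE Eo O hOE) (by
      rw [← cancel_mono P.ι, Category.assoc, Category.assoc, Category.assoc, Scheme.Hom.resLE_comp_ι,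
        Scheme.Hom.resLE_comp_ι_assoc, hψ, sq.w, ← hgs]
      simp only [Category.assoc])
    refine ⟨f ≫ Eo.ι, ?_, ?_⟩
    · rw [Category.assoc, ← Scheme.Hom.resLE_comp_ι E.hom hle, reassoc_of% hf1]
    · rw [reassoc_of% hf2, Scheme.Hom.resLE_comp_ι]
  obtain ⟨fU, hfU1, hfU2⟩ := key U Ua hUa hUaP qU hsq fun y hy => (hOle hy).1
  obtain ⟨fV, hfV1, hfV2⟩ := key V Vb hVb hVbP (φ.left ≫ qV) (by rw [Category.assoc]; exact hw)
    fun y hy => (hOle hy).2
  let C₀ : X.ProEt := Scheme.ProEt.mk (cP ≫ P.ι)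
  let T₀ : Z.ProEt := Scheme.ProEt.mk bZ
  let toG : T₀ ⟶ G.obj C₀ := MorphismProperty.Over.homMk sq.isoPullback.hom sq.isoPullback_hom_snd
  let fromG : G.obj C₀ ⟶ T₀ := MorphismProperty.Over.homMk sq.isoPullback.inv sq.isoPullback_inv_snd
  let a : C₀ ⟶ U := MorphismProperty.Over.homMk fU hfU1
  let b : C₀ ⟶ V := MorphismProperty.Over.homMk fV hfV1
  let f : T₀ ⟶ G.obj U := MorphismProperty.Over.homMk (g ≫ O.ι) (by rw [Category.assoc]; exact hgs)
  have hto : toG.left ≫ pullback.fst C₀.hom i = bC := sq.isoPullback_hom_fst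
  have hmap : ∀ (E : X.ProEt) (c : C₀ ⟶ E) (h : T₀ ⟶ G.obj E),
      h.left ≫ pullback.fst E.hom i = bC ≫ c.left → toG ≫ G.map c = h := fun E c h hh => by
    refine MorphismProperty.Over.Hom.ext (pullback.hom_ext ?_ ?_)
    · show (toG.left ≫ (G.map c).left) ≫ pullback.fst E.hom i = h.left ≫ pullback.fst E.hom i
      rw [hh, Category.assoc]
      exact (congrArg (toG.left ≫ ·) (ProEtCont.isPullback_bcP_map i c).w.symm).trans ((reassoc_of% hto) c.left)
    · exact (Over.w (toG ≫ G.map c).hom).trans (Over.w h.hom).symm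
  have ha : toG ≫ G.map a = f := hmap U a f (by
    show (g ≫ O.ι) ≫ qU = _
    rw [Category.assoc]; exact hfU2.symm)
  have hb : toG ≫ G.map b = f ≫ φ := hmap V b (f ≫ φ) (by
    show ((g ≫ O.ι) ≫ φ.left) ≫ qV = _
    simp only [Category.assoc]
    exact hfV2.symm)
  have hft : fromG ≫ toG = 𝟙 _ := MorphismProperty.Over.Hom.ext sq.isoPullback.inv_hom_id
  refine ⟨O, hzO, hO, PUnit, inferInstance, fun _ => T₀, fun _ => f, fun _ => inferInstanceAs (IsAffine (Spec _)),
    fun _ => ⟨C₀, a, toG, ⟨b, ?_⟩, ha.symm⟩, fun _ => ?_, fun y hy => ?_⟩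
  · rw [← Category.id_comp (G.map b), ← hft, Category.assoc, hb, ← ha]
    simp only [← Category.assoc]
    rw [hft, Category.id_comp]
  · rintro _ ⟨w, rfl⟩
    exact (Scheme.Opens.range_ι O).le ⟨g w, rfl⟩
  · obtain ⟨y', rfl⟩ := (Scheme.Opens.range_ι O).ge hy
    obtain ⟨w, hw'⟩ := g.surjective y'
    exact ⟨⟨⟩, w, by show (g ≫ O.ι) w = _; rw [Scheme.Hom.comp_apply, hw']⟩

theorem isIso_counit_closed [ProEtS.PCont i] (F : ProEtS.AbP Z) :
    IsIso ((ProEtS.pullPushAdjP i).counit.app F) := by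
  haveI := isCoverDense_bcP_closed i
  haveI := isLocallyFull_bcP_closed i
  haveI : (ProEtS.pushP i).Full := inferInstance
  haveI : (ProEtS.pushP i).Faithful := inferInstance
  infer_instance

end Groth.Agent.ProEtInv
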