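import Groth.Agent.ProEtInv.Ring
import Groth.Agent.EtInvariance.Lift
import Groth.Agent.IndEtLift.Basic
import Groth.Agent.IndEtLib.Basic
import Groth.Agent.WContr.Necessity
import Groth.Agent.WContr.WLocalSquare
import Groth.Prelude.Def_ProEtW
import Mathlib

/-!
# Descending ind-étale algebras with étale retractions along universal homeomorphisms
-/

set_option autoImplicit false
set_option linter.style.haveILetI false
set_option backward.isDefEq.respectTransparency false
set_option maxHeartbeats 4000000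

universe u

open CategoryTheory CategoryTheory.Limits TensorProduct AlgebraicGeometry PrimeSpectrum

namespace Groth.Agent.ProEtInv

variable {A B : Type u} [CommRing A] [CommRing B] [Algebra A B]

theorem uh_of_specMap [Algebra.IsIntegral A B]
    [UniversallyInjective (Spec.map (CommRingCat.ofHom (algebraMap A B)))]
    [Surjective (Spec.map (CommRingCat.ofHom (algebraMap A B)))] : UH A B := by
  refine ⟨inferInstance, fun S _ _ => ?_⟩
  have h := isPullback_SpecMap_of_isPushout _ _ _ _ (CommRingCat.isPushout_tensorProduct A S B)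
  haveI : Surjective (Spec.map (CommRingCat.ofHom
      (Algebra.TensorProduct.includeLeftRingHom : S →+* S ⊗[A] B))) :=
    MorphismProperty.of_isPullback h.flip inferInstance
  have hb : Function.Bijective (PrimeSpectrum.comap (algebraMap S (S ⊗[A] B))) :=
    ⟨EtInvariance.comap_injective_of_univInj S,
      (Spec.map (CommRingCat.ofHom (Algebra.TensorProduct.includeLeftRingHom : S →+* S ⊗[A] B))).surjective⟩
  have e : (Algebra.TensorProduct.includeRight : S →ₐ[A] B ⊗[A] S).toRingHom =
      (Algebra.TensorProduct.comm A S B).toRingEquiv.toRingHom.comp (algebraMap S (S ⊗[A] B)) :=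
    RingHom.ext fun s => by simp
  rw [e, show PrimeSpectrum.comap ((Algebra.TensorProduct.comm A S B).toRingEquiv.toRingHom.comp
    (algebraMap S (S ⊗[A] B))) = PrimeSpectrum.comap (algebraMap S (S ⊗[A] B)) ∘
      PrimeSpectrum.comap (Algebra.TensorProduct.comm A S B).toRingEquiv.toRingHom from
    funext fun x => PrimeSpectrum.comap_comp_apply _ _ x]
  exact hb.comp (PrimeSpectrum.comapEquiv (Algebra.TensorProduct.comm A S B).toRingEquiv.symm).bijective

/-- universal homeomorphisms are stable under base change -/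
theorem UH.baseChange (h : UH A B) (S : Type u) [CommRing S] [Algebra A S] : UH S (S ⊗[A] B) := by
  haveI := h.integral
  refine ⟨inferInstance, fun S' _ _ => ?_⟩
  letI : Algebra A S' := ((algebraMap S S').comp (algebraMap A S)).toAlgebra
  haveI : IsScalarTower A S S' := IsScalarTower.of_algebraMap_eq fun _ => rfl
  let e : (S ⊗[A] B) ⊗[S] S' ≃+* B ⊗[A] S' :=
    ((Algebra.TensorProduct.comm S (S ⊗[A] B) S').toRingEquiv.trans
      (Algebra.TensorProduct.cancelBaseChange A S S S' B).toRingEquiv).trans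
      (Algebra.TensorProduct.comm A S' B).toRingEquiv
  have he : (Algebra.TensorProduct.includeRight : S' →ₐ[A] B ⊗[A] S').toRingHom =
      e.toRingHom.comp (Algebra.TensorProduct.includeRight : S' →ₐ[S] (S ⊗[A] B) ⊗[S] S').toRingHom :=
    RingHom.ext fun s => by simp [e, Algebra.TensorProduct.one_def]
  have hb := h.bij S'
  rw [he] at hb
  have hc : PrimeSpectrum.comap (e.toRingHom.comp
      (Algebra.TensorProduct.includeRight : S' →ₐ[S] (S ⊗[A] B) ⊗[S] S').toRingHom) =
      PrimeSpectrum.comap (Algebra.TensorProduct.includeRight : S' →ₐ[S] (S ⊗[A] B) ⊗[S] S').toRingHom ∘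
        PrimeSpectrum.comap e.toRingHom := funext fun x => PrimeSpectrum.comap_comp_apply _ _ x
  rw [hc] at hb
  exact (Function.Bijective.of_comp_iff _ (PrimeSpectrum.comapEquiv e.symm).bijective).1 hb

/-- maps out of weakly étale algebras lift along base changes of a universal homeomorphism -/
theorem exists_algHom_baseChange (h : UH A B) {W S : Type u} [CommRing W] [Algebra A W] [Algebra.WeaklyEtale A W]
    [CommRing S] [Algebra A S] (φ : W →ₐ[A] B ⊗[A] S) :
    ∃ f : W →ₐ[A] S, (Algebra.TensorProduct.includeRight : S →ₐ[A] B ⊗[A] S).comp f = φ := by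
  let φ' : W →ₐ[A] S ⊗[A] B := (Algebra.TensorProduct.comm A B S).toAlgHom.comp φ
  let Φ : S ⊗[A] W →ₐ[S] S ⊗[A] B :=
    Algebra.TensorProduct.lift (Algebra.ofId S (S ⊗[A] B)) φ' fun _ _ => Commute.all _ _
  obtain ⟨f, hf⟩ := exists_algHom (h.baseChange S) Φ
  refine ⟨(f.restrictScalars A).comp Algebra.TensorProduct.includeRight, AlgHom.ext fun w => ?_⟩
  have h1 := congrArg (Algebra.TensorProduct.comm A S B) (congr($hf ((1 : S) ⊗ₜ[A] w)))
  simp only [AlgHom.comp_apply, Φ, Algebra.TensorProduct.lift_tmul, map_one, one_mul] at h1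
  rw [show (Algebra.TensorProduct.comm A S B) (φ' w) = φ w from
    (Algebra.TensorProduct.comm A B S).symm_apply_apply (φ w)] at h1
  simpa using h1

variable {T : Type u} [CommRing T] [Algebra B T] [Algebra A T] [IsScalarTower A B T]

/-- étale algebras mapping to an algebra with étale retractions factor through the base -/
theorem exists_stage [Algebra.IsIntegral A B]
    [UniversallyInjective (Spec.map (CommRingCat.ofHom (algebraMap A B)))]
    (hT : ProEtW.HasEtaleRetractions T) (G : Type u) [CommRing G] [Algebra B G] [Algebra.Etale B G]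
    (χ : G →ₐ[B] T) :
    ∃ (E : Type u) (_ : CommRing E) (_ : Algebra A E) (_ : Algebra.Etale A E)
      (Ψ : B ⊗[A] E →ₐ[B] T) (θ : G →ₐ[B] B ⊗[A] E), Ψ.comp θ = χ := by
  classical
  letI : Algebra A G := ((algebraMap B G).comp (algebraMap A B)).toAlgebra
  haveI : IsScalarTower A B G := IsScalarTower.of_algebraMap_eq fun _ => rfl
  choose E hE1 hE2 hE3 φ hφ hx using fun x : PrimeSpectrum G =>
    EtInvariance.exists_lift_ring (A := A) (B := B) (R := G) x
  let φ' : ∀ x, G →ₐ[B] B ⊗[A] E x := fun x =>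
    { ((Algebra.TensorProduct.comm A (E x) B).toAlgHom.comp (φ x)).toRingHom with
      commutes' := fun b => by
        show Algebra.TensorProduct.comm A (E x) B (φ x (algebraMap B G b)) = _
        rw [hφ x b]
        simp }
  letI algT : Algebra G T := χ.toRingHom.toAlgebra
  haveI : IsScalarTower B G T := IsScalarTower.of_algebraMap_eq fun b => (χ.commutes b).symm
  letI algE : ∀ x, Algebra G (B ⊗[A] E x) := fun x => (φ' x).toRingHom.toAlgebra
  haveI : ∀ x, IsScalarTower B G (B ⊗[A] E x) := fun x =>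
    IsScalarTower.of_algebraMap_eq fun b => ((φ' x).commutes b).symm
  haveI : ∀ x, Algebra.Etale G (B ⊗[A] E x) := fun x => Algebra.Etale.of_restrictScalars B G (B ⊗[A] E x)
  have hopen : ∀ x, IsOpen (Set.range (PrimeSpectrum.comap (algebraMap G (B ⊗[A] E x)))) := fun x =>
    (PrimeSpectrum.isOpenMap_comap_of_hasGoingDown_of_finitePresentation (R := G) (S := B ⊗[A] E x)).isOpen_range
  have hmem : ∀ x, x ∈ Set.range (PrimeSpectrum.comap (algebraMap G (B ⊗[A] E x))) := fun x => by
    obtain ⟨y, hy⟩ := hx x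
    refine ⟨(PrimeSpectrum.comapEquiv (Algebra.TensorProduct.comm A (E x) B).toRingEquiv) y, ?_⟩
    rw [PrimeSpectrum.comapEquiv_apply, ← PrimeSpectrum.comap_comp_apply]
    refine Eq.trans ?_ hy
    congr 1
    exact RingHom.ext fun g => (Algebra.TensorProduct.comm A (E x) B).symm_apply_apply (φ x g)
  obtain ⟨s, hs⟩ := isCompact_univ.elim_finite_subcover _ hopen fun x _ => Set.mem_iUnion.2 ⟨x, hmem x⟩
  let TT : Type u := ∀ i : s, T ⊗[G] (B ⊗[A] E i)
  haveI : Algebra.Etale T TT := inferInstance
  haveI : Module.FaithfullyFlat T TT := Module.FaithfullyFlat.of_comap_surjective fun p => by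
    obtain ⟨x, hxs, q, hq⟩ := Set.mem_iUnion₂.1 (hs (Set.mem_univ (PrimeSpectrum.comap (algebraMap G T) p)))
    obtain ⟨P, hP1, -⟩ := Groth.Agent.WContr.WSquare.exists_prime_over (A := G) (B := T) (C := B ⊗[A] E x) p q hq.symm
    refine ⟨PrimeSpectrum.comap (Pi.evalRingHom (fun i : s => T ⊗[G] (B ⊗[A] E i)) ⟨x, hxs⟩) P, ?_⟩
    rw [← hP1, ← PrimeSpectrum.comap_comp_apply]
    rfl
  obtain ⟨ρ⟩ := hT TT inferInstance inferInstance
  let M : B ⊗[A] (∀ i : s, E i) →ₐ[B] TT :=
    AlgHom.pi fun i : s =>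
      ((Algebra.TensorProduct.includeRight : B ⊗[A] E i →ₐ[G] T ⊗[G] (B ⊗[A] E i)).restrictScalars B).comp
        (Algebra.TensorProduct.map (AlgHom.id B B) (Pi.evalAlgHom A (fun i : s => E i) i))
  let pr := Algebra.TensorProduct.piRight A B B (fun i : s => E i)
  let θ : G →ₐ[B] B ⊗[A] (∀ i : s, E i) := pr.symm.toAlgHom.comp (AlgHom.pi fun i : s => φ' i.1)
  have hpr : ∀ (z : B ⊗[A] (∀ i : s, E i)) (i : s),
      Algebra.TensorProduct.map (AlgHom.id B B) (Pi.evalAlgHom A (fun i : s => E i) i) z = pr z i := fun z i => by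
    induction z using TensorProduct.induction_on with
    | zero => simp
    | tmul b f => simp [pr]
    | add a b ha hb => simp only [map_add, ha, hb, Pi.add_apply]
  refine ⟨∀ i : s, E i, inferInstance, inferInstance, inferInstance, (ρ.restrictScalars B).comp M, θ,
    AlgHom.ext fun g => ?_⟩
  have hM : M (θ g) = algebraMap T TT (χ g) := funext fun i => by
    show (1 : T) ⊗ₜ[G] (Algebra.TensorProduct.map (AlgHom.id B B) (Pi.evalAlgHom A (fun i : s => E i) i) (θ g)) = _
    rw [hpr, show pr (θ g) = fun i : s => φ' i.1 g from pr.apply_symm_apply _]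
    show (1 : T) ⊗ₜ[G] algebraMap G (B ⊗[A] E i) g = algebraMap G T g ⊗ₜ[G] (1 : B ⊗[A] E i)
    rw [Algebra.algebraMap_eq_smul_one, Algebra.algebraMap_eq_smul_one, smul_tmul]
  show ρ (M (θ g)) = χ g
  rw [hM, AlgHom.commutes]
  rfl

/-- units after mapping to an algebra with étale retractions become units at a later stage -/
theorem exists_unit_lift [Algebra.IsIntegral A B]
    [UniversallyInjective (Spec.map (CommRingCat.ofHom (algebraMap A B)))]
    (hUH : UH A B) (hT : ProEtW.HasEtaleRetractions T) (E₀ : Type u) [CommRing E₀] [Algebra A E₀]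
    [Algebra.Etale A E₀] (l : B ⊗[A] E₀ →ₐ[B] T) (u : B ⊗[A] E₀) (hu : IsUnit (l u)) :
    ∃ (E : Type u) (_ : CommRing E) (_ : Algebra A E) (_ : Algebra.Etale A E)
      (Ψ : B ⊗[A] E →ₐ[B] T) (f : E₀ →ₐ[A] E),
      Ψ.comp (Algebra.TensorProduct.map (AlgHom.id B B) f) = l ∧
        IsUnit (Algebra.TensorProduct.map (AlgHom.id B B) f u) := by
  haveI : Algebra.Etale (B ⊗[A] E₀) (Localization.Away u) := Algebra.Etale.of_isLocalizationAway u
  haveI : Algebra.Etale B (Localization.Away u) := Algebra.Etale.comp B (B ⊗[A] E₀) (Localization.Away u)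
  let g : B ⊗[A] E₀ →ₐ[B] Localization.Away u := IsScalarTower.toAlgHom B (B ⊗[A] E₀) (Localization.Away u)
  let χ : Localization.Away u →ₐ[B] T := IsLocalization.Away.liftAlgHom u (f := l) hu
  have hχ : ∀ z, χ (g z) = l z := fun z => IsLocalization.Away.lift_eq u (g := l.toRingHom) hu z
  obtain ⟨E, _, _, _, Ψ, θ, hθ⟩ := exists_stage (A := A) hT (Localization.Away u) χ
  obtain ⟨f, hf⟩ := exists_algHom_baseChange hUH
    (((θ.comp g).restrictScalars A).comp (Algebra.TensorProduct.includeRight : E₀ →ₐ[A] B ⊗[A] E₀))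
  have hmap : ∀ z, Algebra.TensorProduct.map (AlgHom.id B B) f z = θ (g z) := fun z => by
    induction z using TensorProduct.induction_on with
    | zero => simp
    | tmul b y =>
      have h1 : (1 : B) ⊗ₜ[A] f y = θ (g ((1 : B) ⊗ₜ y)) := congr($hf y)
      rw [show b ⊗ₜ[A] y = algebraMap B (B ⊗[A] E₀) b * ((1 : B) ⊗ₜ y) by simp]
      simp only [map_mul, AlgHom.commutes, Algebra.TensorProduct.map_tmul, AlgHom.id_apply, h1]
    | add a b ha hb => simp only [map_add, ha, hb]
  refine ⟨E, inferInstance, inferInstance, inferInstance, Ψ, f, AlgHom.ext fun z => ?_, ?_⟩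
  · rw [AlgHom.comp_apply, hmap, ← AlgHom.comp_apply, hθ, hχ]
  · rw [hmap]
    exact (IsLocalization.Away.algebraMap_isUnit (S := Localization.Away u) u).map θ

open IndEtLift in
/-- ind-étale algebras with étale retractions come from ind-étale algebras of the base -/
theorem exists_descend [Algebra.IsIntegral A B]
    [UniversallyInjective (Spec.map (CommRingCat.ofHom (algebraMap A B)))]
    [Surjective (Spec.map (CommRingCat.ofHom (algebraMap A B)))]
    (hind : EtPBC.IsIndEtale B T) (hT : ProEtW.HasEtaleRetractions T) :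
    ∃ (C : Type u) (_ : CommRing C) (_ : Algebra A C),
      EtPBC.IsIndEtale A C ∧ Nonempty (B ⊗[A] C ≃ₐ[B] T) := by
  have hUH : UH A B := uh_of_specMap
  let D := dia A T
  let c : Cocone D := colimit.cocone D
  let hc : IsColimit c := colimit.isColimit D
  let F := Under.forget (CommRingCat.of A) ⋙ forget CommRingCat.{u}
  have hF : IsColimit (F.mapCocone c) := isColimitOfPreserves F hc
  let C : Type u := c.pt.right
  letI : Algebra A C := c.pt.hom.hom.toAlgebra
  let ι : ∀ X : Obj A T, X.E →ₐ[A] C := fun X =>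
    { (c.ι.app X).right.hom with commutes' := fun a => congr($(Under.w (c.ι.app X)) a) }
  have hι : ∀ x : C, ∃ (X : Obj A T) (y : X.E), ι X y = x := fun x => Types.jointly_surjective _ hF x
  have hιw : ∀ {X Y : Obj A T} (f : X ⟶ Y) (y : X.E), ι Y (f.1 y) = ι X y := fun f y =>
    congr(($(c.w f)).right y)
  have hindC : EtPBC.IsIndEtale A C := by
    refine ⟨Obj A T, inferInstance, inferInstance, D, c, hc, fun X => ?_, ⟨Iso.refl _⟩⟩
    change @Algebra.Etale A X.E _ _ (algebraMap A X.E).toAlgebra
    rw [show (algebraMap A X.E).toAlgebra = (inferInstance : Algebra A X.E) from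
      Algebra.algebra_ext _ _ fun r => rfl]
    infer_instance
  let co : Cocone D :=
    { pt := Under.mk (CommRingCat.ofHom (algebraMap A T))
      ι :=
        { app := fun X => Under.homMk (CommRingCat.ofHom X.φ.toRingHom)
            (CommRingCat.hom_ext (RingHom.ext fun a => X.φ.commutes a))
          naturality := fun X Y f => Under.UnderMorphism.ext (CommRingCat.hom_ext
            (RingHom.ext fun x => congr($(f.2) x))) } }
  let ψ : C →ₐ[A] T :=
    { (hc.desc co).right.hom with commutes' := fun a => congr($(Under.w (hc.desc co)) a) }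
  have hψι : ∀ (X : Obj A T) (y : X.E), ψ (ι X y) = X.φ y := fun X y => congr(($(hc.fac co X)).right y)
  let Φ : B ⊗[A] C →ₐ[B] T := Algebra.TensorProduct.lift (Algebra.ofId B T) ψ fun _ _ => Commute.all _ _
  let tι : ∀ X : Obj A T, B ⊗[A] X.E →ₐ[B] B ⊗[A] C := fun X => Algebra.TensorProduct.map (AlgHom.id B B) (ι X)
  let lft : ∀ X : Obj A T, B ⊗[A] X.E →ₐ[B] T := fun X =>
    Algebra.TensorProduct.lift (Algebra.ofId B T) X.φ fun _ _ => Commute.all _ _
  have hΦι : ∀ (X : Obj A T) (z : B ⊗[A] X.E), Φ (tι X z) = lft X z := fun X z => by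
    induction z using TensorProduct.induction_on with
    | zero => simp
    | tmul b y => simp [Φ, tι, lft, hψι]
    | add a b ha hb => simp only [map_add, ha, hb]
  have hobj : ∀ (E : Type u) [CommRing E] [Algebra A E] [Algebra.Etale A E] (Ψ : B ⊗[A] E →ₐ[B] T),
      ∃ (X : Obj A T) (e : E ≃ₐ[A] X.E),
        (lft X).comp (Algebra.TensorProduct.map (AlgHom.id B B) e.toAlgHom) = Ψ := by
    intro E _ _ _ Ψ
    obtain ⟨X, e, he⟩ := exists_obj E ((Ψ.restrictScalars A).comp Algebra.TensorProduct.includeRight)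
    refine ⟨X, e, Algebra.TensorProduct.ext' fun b y => ?_⟩
    have h1 : X.φ (e y) = Ψ (1 ⊗ₜ y) := congr($he y)
    simp only [AlgHom.comp_apply, Algebra.TensorProduct.map_tmul, AlgHom.id_apply, lft,
      Algebra.TensorProduct.lift_tmul]
    show algebraMap B T b * X.φ (e y) = _
    rw [h1, ← Ψ.commutes, ← map_mul]
    simp
  have hsurj : Function.Surjective Φ := fun t => by
    obtain ⟨sys⟩ := Groth.Agent.IndEtLib.exists_system hind
    obtain ⟨S, -, hS⟩ := sys.surj {t}
    obtain ⟨x, hx⟩ := hS t (Finset.mem_singleton_self t)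
    obtain ⟨E, _, _, _, Ψ, θ, hθ⟩ := exists_stage (A := A) hT S.E S.φ
    obtain ⟨X, e, he⟩ := hobj E Ψ
    refine ⟨tι X (Algebra.TensorProduct.map (AlgHom.id B B) e.toAlgHom (θ x)), ?_⟩
    rw [hΦι, ← AlgHom.comp_apply, he, ← AlgHom.comp_apply, hθ, hx]
  have hjoint : ∀ z : B ⊗[A] C, ∃ (X : Obj A T) (z₀ : B ⊗[A] X.E), tι X z₀ = z := fun z => by
    induction z using TensorProduct.induction_on with
    | zero => exact ⟨Classical.choice IsFiltered.nonempty, 0, map_zero _⟩
    | tmul b y =>
      obtain ⟨X, y₀, rfl⟩ := hι y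
      exact ⟨X, b ⊗ₜ y₀, by simp [tι]⟩
    | add a b ha hb =>
      obtain ⟨X, a₀, rfl⟩ := ha
      obtain ⟨Y, b₀, rfl⟩ := hb
      obtain ⟨Z, f, g, -⟩ := IsFilteredOrEmpty.cocone_objs X Y
      have hw : ∀ {X Z : Obj A T} (f : X ⟶ Z) (a : B ⊗[A] X.E),
          tι Z (Algebra.TensorProduct.map (AlgHom.id B B) f.1 a) = tι X a := fun f a => by
        induction a using TensorProduct.induction_on with
        | zero => simp
        | tmul b y => simp [tι, hιw]
        | add a b ha hb => simp only [map_add, ha, hb]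
      exact ⟨Z, Algebra.TensorProduct.map (AlgHom.id B B) f.1 a₀ + Algebra.TensorProduct.map (AlgHom.id B B) g.1 b₀,
        by rw [map_add, hw, hw]⟩
  have hunit : ∀ u : B ⊗[A] C, IsUnit (Φ u) → IsUnit u := fun u hu => by
    obtain ⟨X, u₀, rfl⟩ := hjoint u
    rw [hΦι] at hu
    obtain ⟨E, _, _, _, Ψ, f, hcomp, hu1⟩ := exists_unit_lift hUH hT X.E (lft X) u₀ hu
    obtain ⟨Y, e, he⟩ := hobj E Ψ
    let m : X ⟶ Y := ⟨e.toAlgHom.comp f, AlgHom.ext fun y => by
      have h1 := congr($he (Algebra.TensorProduct.map (AlgHom.id B B) f ((1 : B) ⊗ₜ y)))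
      conv_rhs at h1 => rw [← AlgHom.comp_apply, hcomp]
      simpa [lft] using h1⟩
    have h2 := (hu1.map (Algebra.TensorProduct.map (AlgHom.id B B) e.toAlgHom)).map (tι Y).toRingHom
    have hw : tι Y (Algebra.TensorProduct.map (AlgHom.id B B) e.toAlgHom
        (Algebra.TensorProduct.map (AlgHom.id B B) f u₀)) = tι X u₀ := by
      clear hu hu1 h2
      induction u₀ using TensorProduct.induction_on with
      | zero => simp
      | tmul b y =>
        simp only [tι, Algebra.TensorProduct.map_tmul, AlgHom.id_apply]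
        exact congrArg (b ⊗ₜ[A] ·) (hιw m y)
      | add a b ha hb => simp only [map_add, ha, hb]
    rw [← hw]; exact h2
  haveI : Algebra.WeaklyEtale A C := Groth.Agent.S0736.result A C hindC
  haveI : Algebra.WeaklyEtale B T := Groth.Agent.S0736.result B T hind
  letI : Algebra (B ⊗[A] C) T := Φ.toRingHom.toAlgebra
  haveI : IsScalarTower B (B ⊗[A] C) T := IsScalarTower.of_algebraMap_eq fun b => (Φ.commutes b).symm
  haveI := WeakEt.weaklyEtale_of_comp B (B ⊗[A] C) T
  have hflat : Φ.toRingHom.Flat := by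
    change Module.Flat (B ⊗[A] C) T
    infer_instance
  haveI : (RingHom.ker Φ.toRingHom).Pure := (WeakEt.flat_iff_kernel_pure (f := Φ.toRingHom) hsurj).1 hflat
  have hinj : Function.Injective Φ := by
    rw [injective_iff_map_eq_zero]
    intro x hx
    obtain ⟨y, hy, hxy⟩ := Ideal.exists_eq_mul_of_pure (I := RingHom.ker Φ.toRingHom) (x := x) hx
    have hu : IsUnit (1 - y) := hunit _ (by
      rw [map_sub, map_one, show Φ y = 0 from hy, sub_zero]
      exact isUnit_one)
    have hz : x * (1 - y) = 0 := by rw [mul_sub, mul_one, ← hxy, sub_self]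
    exact hu.mul_left_eq_zero.1 hz
  exact ⟨C, inferInstance, inferInstance, hindC, ⟨AlgEquiv.ofBijective Φ ⟨hinj, hsurj⟩⟩⟩

end Groth.Agent.ProEtInv
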