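import Groth.Agent.ProEtInv.Pairs
import Mathlib

/-!
# The inverse image along a closed immersion preserves limits
-/

set_option autoImplicit false
set_option linter.style.haveILetI false
set_option backward.isDefEq.respectTransparency false
set_option maxHeartbeats 1600000
set_option synthInstance.maxHeartbeats 400000

universe u w

open CategoryTheory CategoryTheory.Limits AlgebraicGeometry Opposite

namespace Groth.Agent.ProEtInv

open Groth.Agent.WContr

variable {Z X : Scheme.{u}} {i : Z ⟶ X}

theorem isIso_ι_of_isTerminal' {J C : Type*} [Category J] [Category C] {F : J ⥤ C} {c : Cocone F}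
    (hc : IsColimit c) {j : J} (hj : IsTerminal j) : IsIso (c.ι.app j) := by
  have h := IsColimit.comp_coconePointUniqueUpToIso_hom (colimitOfDiagramTerminal hj F) hc j
  have e : (coconeOfDiagramTerminal hj F).ι.app j = 𝟙 _ := by
    simp [coconeOfDiagramTerminal, hj.from_self]
  rw [e, Category.id_comp] at h
  rw [← h]
  infer_instance

/-- the neighbourhood of a lift pair is terminal -/
noncomputable def isTerminal_pair {C₀ : X.ProEt} {T₀ : Z.ProEt} {toG : T₀ ⟶ (ProEtS.bcP i).obj C₀}
    (h : IsLiftPair toG) :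
    IsTerminal (CostructuredArrow.mk (S := (ProEtS.bcP i).op) (Y := op C₀) toG.op) :=
  IsTerminal.ofUniqueHom
    (fun g => CostructuredArrow.homMk (h.univ g.left.unop g.hom.unop).choose.op
      (Quiver.Hom.unop_inj (h.univ g.left.unop g.hom.unop).choose_spec.1))
    (fun g m => CostructuredArrow.hom_ext _ _ (Quiver.Hom.unop_inj
      ((h.univ g.left.unop g.hom.unop).choose_spec.2 m.left.unop (congrArg Quiver.Hom.unop (CostructuredArrow.w m)))))

theorem bijective_toSheafify_ab {Y : Scheme.{u}} (P : (Y.ProEt)ᵒᵖ ⥤ AddCommGrpCat.{u + 1}) (W : Y.ProEt)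
    (h : Decomposable W) (hP : SplitsAt (P ⋙ forget AddCommGrpCat.{u + 1}) W) :
    Function.Bijective ((toSheafify (Scheme.ProEt.topology Y) P).app (op W)) := by
  let J := Scheme.ProEt.topology Y
  let η := toSheafify J P
  have hnat : ∀ {V V' : Y.ProEt} (g : V' ⟶ V) (a : P.obj (op V)),
      η.app (op V') (P.map g.op a) = (sheafify J P).map g.op (η.app (op V) a) := fun g a =>
    NatTrans.naturality_apply η g.op a
  constructor
  · intro a b hab
    haveI : Presheaf.IsLocallyInjective J η := inferInstance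
    obtain ⟨n, O, -, hd, hc, hR⟩ := h _ (Presheaf.equalizerSieve_mem J η a b hab)
    exact (hP n O hd hc fun k => P.map (pieceHom W (O k)).op a).unique (fun k => rfl)
      fun k => (hR k).symm
  · intro s
    haveI : Presheaf.IsLocallySurjective J η := inferInstance
    obtain ⟨n, O, -, hd, hc, hR⟩ := h _ (Presheaf.imageSieve_mem J η s)
    choose t ht using hR
    obtain ⟨a, ha, -⟩ := hP n O hd hc t
    have hsh : Presieve.IsSheaf J (((presheafToSheaf J AddCommGrpCat.{u + 1}).obj P).obj ⋙ forget _) :=
      (isSheaf_iff_isSheaf_of_type _ _).1 ((sheafCompose J (forget AddCommGrpCat.{u + 1})).obj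
        ((presheafToSheaf J AddCommGrpCat.{u + 1}).obj P)).property
    refine ⟨a, (existsUnique_glue hsh O hd hc
      fun k => (sheafify J P).map (pieceHom W (O k)).op s).unique (fun k => ?_) fun k => rfl⟩
    show (sheafify J P).map (pieceHom W (O k)).op (η.app (op W) a) = _
    rw [← hnat, show P.map (pieceHom W (O k)).op a = t k from ha k]
    exact ht k

variable (i)

/-- sections of the constructed inverse image over a lift pair -/
noncomputable def evalHom [ProEtS.PCont i] {C₀ : X.ProEt} {T₀ : Z.ProEt} (toG : T₀ ⟶ (ProEtS.bcP i).obj C₀) :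
    sheafToPresheaf (Scheme.ProEt.topology X) AddCommGrpCat.{u + 1} ⋙ (evaluation _ _).obj (op C₀) ⟶
      Functor.sheafPullbackConstruction.sheafPullback (ProEtS.bcP i) AddCommGrpCat.{u + 1}
        (Scheme.ProEt.topology X) (Scheme.ProEt.topology Z) ⋙
        sheafToPresheaf _ _ ⋙ (evaluation _ _).obj (op T₀) where
  app F := ((ProEtS.bcP i).op.lanUnit.app F.obj).app (op C₀) ≫
    ((ProEtS.bcP i).op.lan.obj F.obj).map toG.op ≫
      (toSheafify (Scheme.ProEt.topology Z) ((ProEtS.bcP i).op.lan.obj F.obj)).app (op T₀)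
  naturality F G φ := by
    let L := (ProEtS.bcP i).op
    let J := Scheme.ProEt.topology Z
    have h1 := congr_app (L.lanUnit.naturality φ.hom) (op C₀)
    have h2 := (L.lan.map φ.hom).naturality toG.op
    have h3 := congr_app (toSheafify_naturality J (L.lan.map φ.hom)) (op T₀)
    change φ.hom.app (op C₀) ≫ (L.lanUnit.app G.obj).app (op C₀) = (L.lanUnit.app F.obj).app (op C₀) ≫
      (L.lan.map φ.hom).app (op ((ProEtS.bcP i).obj C₀)) at h1
    change (L.lan.map φ.hom).app (op T₀) ≫ (toSheafify J (L.lan.obj G.obj)).app (op T₀) =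
      (toSheafify J (L.lan.obj F.obj)).app (op T₀) ≫ (sheafifyMap J (L.lan.map φ.hom)).app (op T₀) at h3
    show φ.hom.app (op C₀) ≫ (L.lanUnit.app G.obj).app (op C₀) ≫ (L.lan.obj G.obj).map toG.op ≫
        (toSheafify J (L.lan.obj G.obj)).app (op T₀) =
      ((L.lanUnit.app F.obj).app (op C₀) ≫ (L.lan.obj F.obj).map toG.op ≫
        (toSheafify J (L.lan.obj F.obj)).app (op T₀)) ≫ (sheafifyMap J (L.lan.map φ.hom)).app (op T₀)
    rw [reassoc_of% h1, ← reassoc_of% h2, h3]
    simp only [Category.assoc]

theorem preserves_forget_lan (G : Z ⟶ X) (F : X.ProEtᵒᵖ ⥤ AddCommGrpCat.{u + 1}) :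
    (forget AddCommGrpCat.{u + 1}).PreservesPointwiseLeftKanExtension F (ProEtS.bcP G).op := fun c => by
  haveI : PreservesFiniteLimits (ProEtS.bcP G) := Groth.Agent.ProEtCont.preservesFiniteLimits_bcP G
  haveI : RepresentablyFlat (ProEtS.bcP G) := flat_of_preservesFiniteLimits _
  haveI : PreservesFilteredColimitsOfSize.{u, u + 1} (forget AddCommGrpCat.{u + 1}) :=
    preservesFilteredColimitsOfSize_shrink.{u + 1, u + 1, u, u + 1} _
  exact ⟨fun E hE => ⟨(isColimitOfPreserves (forget AddCommGrpCat.{u + 1}) hE).ofIsoColimit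
    (Functor.LeftExtension.coconeAtWhiskerRightIso _ _ _ E c).symm⟩⟩

theorem bijective_evalHom [ProEtS.PCont i] {C₀ : X.ProEt} {T₀ : Z.ProEt} {toG : T₀ ⟶ (ProEtS.bcP i).obj C₀}
    (h : IsLiftPair toG) (F : ProEtS.AbP X) : Function.Bijective ((evalHom i toG).app F) := by
  haveI := h.affine
  let L := (ProEtS.bcP i).op
  let col := Functor.isPointwiseLeftKanExtensionLeftKanExtensionUnit L F.obj
  have hι : IsIso ((L.leftKanExtensionUnit F.obj).app (op C₀) ≫ (L.leftKanExtension F.obj).map toG.op) :=
    isIso_ι_of_isTerminal' (col (op T₀)) (isTerminal_pair h)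
  let P := L.leftKanExtension F.obj
  haveI := preserves_forget_lan i F.obj
  haveI hP : (P ⋙ forget AddCommGrpCat.{u + 1}).IsLeftKanExtension
      ((Functor.LeftExtension.postcompose₂ L F.obj (forget AddCommGrpCat.{u + 1})).obj
        (Functor.LeftExtension.mk P (L.leftKanExtensionUnit F.obj))).hom :=
    (col.postcompose (forget AddCommGrpCat.{u + 1})).isLeftKanExtension
  let F' := (sheafCompose (Scheme.ProEt.topology X) (forget AddCommGrpCat.{u + 1})).obj F
  have hsp : SplitsAt (P ⋙ forget AddCommGrpCat.{u + 1}) T₀ := by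
    let e : L.leftKanExtension F'.obj ≅ P ⋙ forget AddCommGrpCat.{u + 1} :=
      Functor.leftKanExtensionUnique _ (L.leftKanExtensionUnit F'.obj) _
        ((Functor.LeftExtension.postcompose₂ L F.obj (forget AddCommGrpCat.{u + 1})).obj
          (Functor.LeftExtension.mk P (L.leftKanExtensionUnit F.obj))).hom
    intro n O hd hc t
    obtain ⟨s, hs, hu⟩ := splitsAt_lan i F' T₀ n O hd hc fun k => e.inv.app _ (t k)
    refine ⟨e.hom.app _ s, fun k => ?_, fun s' hs' => ?_⟩
    · rw [← NatTrans.naturality_apply e.hom, show (L.leftKanExtension F'.obj).map (pieceHom T₀ (O k)).op s =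
        e.inv.app _ (t k) from hs k]
      exact e.inv_hom_id_app_apply _ _
    · have := hu (e.inv.app _ s') fun k => by
        show (L.leftKanExtension F'.obj).map (pieceHom T₀ (O k)).op (e.inv.app _ s') = _
        rw [← NatTrans.naturality_apply e.inv, hs']
      rw [← this]
      exact (e.inv_hom_id_app_apply _ _).symm
  have hb := bijective_toSheafify_ab P T₀ h.decomposable hsp
  have h2 := (ConcreteCategory.bijective_of_isIso
    ((L.leftKanExtensionUnit F.obj).app (op C₀) ≫ (L.leftKanExtension F.obj).map toG.op))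
  exact hb.comp h2

/-- sections over a lift pair of the inverse image -/
noncomputable def evalIso [ProEtS.PCont i] {C₀ : X.ProEt} {T₀ : Z.ProEt} {toG : T₀ ⟶ (ProEtS.bcP i).obj C₀}
    (h : IsLiftPair toG) :
    sheafToPresheaf (Scheme.ProEt.topology X) AddCommGrpCat.{u + 1} ⋙ (evaluation _ _).obj (op C₀) ≅
      ProEtS.pullP i ⋙ sheafToPresheaf _ _ ⋙ (evaluation _ _).obj (op T₀) :=
  haveI : ∀ F, IsIso ((evalHom i toG).app F) := fun F =>
    (ConcreteCategory.isIso_iff_bijective _).2 (bijective_evalHom i h F)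
  NatIso.ofComponents (fun F => asIso ((evalHom i toG).app F)) (fun φ => (evalHom i toG).naturality φ) ≪≫
    Functor.isoWhiskerRight (Functor.sheafPullbackConstruction.sheafPullbackIso (ProEtS.bcP i)
      AddCommGrpCat.{u + 1} (Scheme.ProEt.topology X) (Scheme.ProEt.topology Z)).symm _

variable [IsClosedImmersion i]

/-- morphisms of sheaves bijective on lift pairs are isomorphisms -/
theorem isIso_of_bijective_pairs {A B : ProEtS.AbP Z} (φ : A ⟶ B)
    (h : ∀ (C₀ : X.ProEt) (T₀ : Z.ProEt) (toG : T₀ ⟶ (ProEtS.bcP i).obj C₀), IsLiftPair toG →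
      Function.Bijective (φ.hom.app (op T₀))) : IsIso φ := by
  haveI : Sheaf.IsLocallyInjective φ := ⟨fun {D} a b hab => liftPairs_mem i D.unop _ fun C₀ T₀ toG f hp => by
    show A.obj.map f.op a = A.obj.map f.op b
    apply (h C₀ T₀ toG hp).1
    rw [NatTrans.naturality_apply, NatTrans.naturality_apply]
    exact congrArg (B.obj.map f.op) hab⟩
  haveI : Sheaf.IsLocallySurjective φ := ⟨fun {D} s => liftPairs_mem i D _ fun C₀ T₀ toG f hp =>
    (h C₀ T₀ toG hp).2 (B.obj.map f.op s)⟩
  exact (Sheaf.isLocallyBijective_iff_isIso φ).1 ⟨inferInstance, inferInstance⟩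

theorem preservesLimitsOfShape_pullP [ProEtS.PCont i] (J : Type u) [SmallCategory J] :
    PreservesLimitsOfShape J (ProEtS.pullP i) := by
  refine ⟨fun {K} => ?_⟩
  haveI : IsIso (limit.post K (ProEtS.pullP i)) := isIso_of_bijective_pairs i _ fun C₀ T₀ toG h => by
    let evT : ProEtS.AbP Z ⥤ AddCommGrpCat.{u + 1} := sheafToPresheaf _ _ ⋙ (evaluation _ _).obj (op T₀)
    haveI : PreservesLimitsOfShape J evT := inferInstance
    haveI : PreservesLimitsOfShape J (ProEtS.pullP i ⋙ evT) := preservesLimitsOfShape_of_natIso (evalIso i h)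
    haveI : IsIso (evT.map (limit.post K (ProEtS.pullP i))) := by
      have h1 := limit.post_post K (ProEtS.pullP i) evT
      haveI : IsIso (evT.map (limit.post K (ProEtS.pullP i)) ≫ limit.post (K ⋙ ProEtS.pullP i) evT) := by
        rw [h1]; infer_instance
      exact IsIso.of_isIso_comp_right _ (limit.post (K ⋙ ProEtS.pullP i) evT)
    exact ConcreteCategory.bijective_of_isIso (evT.map (limit.post K (ProEtS.pullP i)))
  exact preservesLimit_of_isIso_post (ProEtS.pullP i) K

end Groth.Agent.ProEtInv
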