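import Groth.Prelude.Def_ProEtS
import Mathlib

/-!
# The pro-étale site of an open subscheme
-/

set_option autoImplicit false
set_option backward.isDefEq.respectTransparency false
set_option linter.style.haveILetI false

universe u

open CategoryTheory CategoryTheory.Limits AlgebraicGeometry Opposite

namespace Groth.Agent.ProEtInv

variable {U X : Scheme.{u}} (j : U ⟶ X) [IsOpenImmersion j]

/-- composition is left adjoint to base change -/
noncomputable def compBcAdj : ProEtS.compP j ⊣ ProEtS.bcP j :=
  MorphismProperty.Over.mapPullbackAdj @WeaklyEtale ⊤ j inferInstance trivial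

theorem isIso_unit_compBcAdj : IsIso (compBcAdj j).unit := by
  haveI : ∀ D, IsIso ((compBcAdj j).unit.app D) := fun D => by
    have h : IsPullback (𝟙 D.left) D.hom (D.hom ≫ j) j := by
      refine ⟨⟨by simp⟩, ⟨PullbackCone.IsLimit.mk _ (fun s => s.fst) (fun s => Category.comp_id _)
        (fun s => ?_) fun s m h1 _ => by simpa using h1⟩⟩
      rw [← cancel_mono j, Category.assoc]
      exact s.condition
    let e : D ≅ (ProEtS.bcP j).obj ((ProEtS.compP j).obj D) :=
      MorphismProperty.Over.isoMk h.isoPullback h.isoPullback_hom_snd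
    have he : (compBcAdj j).unit.app D = e.hom := by
      refine MorphismProperty.Over.Hom.ext (pullback.hom_ext ?_ ?_)
      · exact ((pullback.lift_fst _ _ _).trans h.isoPullback_hom_fst.symm)
      · exact ((pullback.lift_snd _ _ _).trans h.isoPullback_hom_snd.symm)
    rw [he]
    infer_instance
  exact NatIso.isIso_of_isIso_app _

theorem isCoverDense_bcP_open : (ProEtS.bcP j).IsCoverDense (Scheme.ProEt.topology U) := by
  haveI := isIso_unit_compBcAdj j
  refine ⟨fun D => (Scheme.ProEt.topology U).superset_covering ?_ ((Scheme.ProEt.topology U).top_mem D)⟩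
  intro Y f _
  exact ⟨⟨(ProEtS.compP j).obj D, f ≫ (compBcAdj j).unit.app D, inv ((compBcAdj j).unit.app D),
    by rw [Category.assoc, IsIso.hom_inv_id, Category.comp_id]⟩⟩

theorem isLocallyFull_bcP_open : (ProEtS.bcP j).IsLocallyFull (Scheme.ProEt.topology U) := by
  haveI := isIso_unit_compBcAdj j
  refine ⟨fun {V W} φ => (Scheme.ProEt.topology U).superset_covering ?_ ((Scheme.ProEt.topology U).top_mem _)⟩
  intro Y f _
  let adj := compBcAdj j
  let R := ProEtS.bcP j
  refine ⟨(ProEtS.compP j).obj (R.obj V), adj.counit.app V, f ≫ adj.unit.app (R.obj V),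
    ⟨(ProEtS.compP j).map φ ≫ adj.counit.app W, ?_⟩, ?_⟩
  · refine (cancel_epi (adj.unit.app (R.obj V))).1 ?_
    simp [R, Adjunction.unit_naturality_assoc]
  · rw [Category.assoc, adj.right_triangle_components]
    exact (Category.comp_id f).symm

theorem isIso_unit_counit_open [ProEtS.JPCont j] [ProEtS.PCont j] (F G : ProEtS.AbP U) :
    IsIso ((ProEtS.extZeroPAdj j).unit.app F) ∧ IsIso ((ProEtS.pullPushAdjP j).counit.app G) := by
  haveI := isCoverDense_bcP_open j
  haveI := isLocallyFull_bcP_open j
  haveI : (ProEtS.pushP j).Full := inferInstance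
  haveI : (ProEtS.pushP j).Faithful := inferInstance
  let adj : ProEtS.restrP j ⊣ ProEtS.pushP j :=
    (Adjunction.whiskerLeft AddCommGrpCat.{u + 1} (compBcAdj j).op).restrictFullyFaithful
      (fullyFaithfulSheafToPresheaf _ _) (fullyFaithfulSheafToPresheaf _ _) (Iso.refl _) (Iso.refl _)
  let t : Adjunction.Triple (ProEtS.extZeroP j) (ProEtS.restrP j) (ProEtS.pushP j) :=
    { adj₁ := ProEtS.extZeroPAdj j, adj₂ := adj }
  haveI : IsIso t.adj₁.unit := t.isIso_unit_iff_isIso_counit.2 inferInstance
  exact ⟨inferInstanceAs (IsIso (t.adj₁.unit.app F)), inferInstance⟩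

end Groth.Agent.ProEtInv
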