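import Groth.Agent.ProEtInv.Closed
import Groth.Agent.WContr.ProEtSheafify
import Mathlib

/-!
# Sections of the inverse image along a closed immersion on lifted w-contractible objects
-/

set_option autoImplicit false
set_option linter.style.haveILetI false
set_option backward.isDefEq.respectTransparency false
set_option maxHeartbeats 1600000
set_option synthInstance.maxHeartbeats 200000

universe u

open CategoryTheory CategoryTheory.Limits AlgebraicGeometry Opposite

namespace Groth.Agent.ProEtInv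

open Groth.Agent.WContr

variable {Z X : Scheme.{u}} {i : Z ⟶ X}

/-- a w-contractible object of the closed subscheme together with its henselian lift -/
structure IsLiftPair {C₀ : X.ProEt} {T₀ : Z.ProEt} (toG : T₀ ⟶ (ProEtS.bcP i).obj C₀) : Prop where
  affine : IsAffine T₀.left
  affineLift : IsAffine C₀.left
  decomposable : Decomposable T₀
  isIso : IsIso toG
  univ : ∀ (V : X.ProEt) (m : T₀ ⟶ (ProEtS.bcP i).obj V), ∃! c : C₀ ⟶ V, toG ≫ (ProEtS.bcP i).map c = m

theorem lift_unique {V : X.ProEt} {S T : Scheme.{u}} [IsAffine S] (b : T ⟶ S)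
    (hb : ∀ x : S, IsClosed ({x} : Set S) → x ∈ Set.range b)
    (c c' : S ⟶ V.left) (hw : c ≫ V.hom = c' ≫ V.hom) (h : b ≫ c = b ≫ c') : c = c' := by
  let l : S ⟶ pullback V.hom V.hom := pullback.lift c c' hw
  let e := pullback.snd (pullback.diagonal V.hom) l
  haveI : IsImmersion e := MorphismProperty.pullback_snd _ _ inferInstance
  haveI : Flat e := MorphismProperty.pullback_snd _ _ inferInstance
  have hcl : ∀ x : S, IsClosed ({x} : Set S) → x ∈ Set.range e := fun x hx => by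
    obtain ⟨t, rfl⟩ := hb x hx
    let t' : T ⟶ pullback (pullback.diagonal V.hom) l := pullback.lift (b ≫ c) b (by
      apply pullback.hom_ext <;> simp [l, h])
    exact ⟨t' t, by rw [← Scheme.Hom.comp_apply, pullback.lift_snd]⟩
  have hsurj : Set.range e = Set.univ := Set.eq_univ_of_forall fun x => by
    obtain ⟨y, hy, hyc⟩ := IsClosed.exists_closed_singleton (isClosed_closure (s := ({x} : Set S)))
      ⟨x, subset_closure rfl⟩
    obtain ⟨w, rfl⟩ := hcl y hyc
    obtain ⟨x', -, hx'⟩ := Flat.generalizingMap e (specializes_iff_mem_closure.2 hy)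
    exact ⟨x', hx'⟩
  haveI : IsClosedImmersion e := IsClosedImmersion.of_isPreimmersion e (by rw [hsurj]; exact isClosed_univ)
  haveI : Surjective e := ⟨fun x => hsurj.ge (Set.mem_univ x)⟩
  haveI : IsIso e := isIso_of_surjective e
  have h1 : e ≫ c = pullback.fst (pullback.diagonal V.hom) l := by
    have := congrArg (· ≫ pullback.fst V.hom V.hom) (pullback.condition (f := pullback.diagonal V.hom) (g := l))
    simpa [l, e] using this.symm
  have h2 : e ≫ c' = pullback.fst (pullback.diagonal V.hom) l := by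
    have := congrArg (· ≫ pullback.snd V.hom V.hom) (pullback.condition (f := pullback.diagonal V.hom) (g := l))
    simpa [l, e] using this.symm
  exact (cancel_epi e).1 (h1.trans h2.symm)
where
  isIso_of_surjective {A B : Scheme.{u}} (e : A ⟶ B) [IsClosedImmersion e] [Flat e] [Surjective e] : IsIso e :=
    Flat.isIso_of_surjective_of_mono e

variable (i) [IsClosedImmersion i]

/-- every object of the closed subscheme is covered by lift pairs -/
theorem exists_liftPair (D : Z.ProEt) (x : D.left) :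
    ∃ (O : D.left.Opens) (C₀ : X.ProEt) (T₀ : Z.ProEt) (toG : T₀ ⟶ (ProEtS.bcP i).obj C₀) (f : T₀ ⟶ D),
      x ∈ O ∧ IsAffineOpen O ∧ IsLiftPair toG ∧ Set.range f.left ⊆ O ∧ ∀ y ∈ O, y ∈ Set.range f.left := by
  obtain ⟨P, hP, hxP, -⟩ := exists_isAffineOpen_mem_and_subset (X := X) (x := i (D.hom x)) (U := ⊤) trivial
  obtain ⟨O, hO, hxO, hOle⟩ := exists_isAffineOpen_mem_and_subset (X := D.left) (x := x)
    (U := D.hom ⁻¹ᵁ (i ⁻¹ᵁ P)) hxP
  haveI : IsAffine O.toScheme := hO
  let d := D.hom.resLE (i ⁻¹ᵁ P) O hOle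
  haveI : WeaklyEtale d := by
    haveI : WeaklyEtale (d ≫ (i ⁻¹ᵁ P).ι) := by
      rw [Scheme.Hom.resLE_comp_ι]; infer_instance
    exact WeaklyEtale.of_comp d (i ⁻¹ᵁ P).ι
  obtain ⟨C, T, cP, _, bZ, _, bC, g, _, hwc, hcl, sq, hg, hlift⟩ := exists_wc_lift i P hP O.toScheme d
  let C₀ : X.ProEt := Scheme.ProEt.mk (cP ≫ P.ι)
  let T₀ : Z.ProEt := Scheme.ProEt.mk bZ
  haveI : IsAffine T₀.left := inferInstanceAs (IsAffine (Spec T))
  haveI : IsAffine C₀.left := inferInstanceAs (IsAffine (Spec C))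
  let toG : T₀ ⟶ (ProEtS.bcP i).obj C₀ := MorphismProperty.Over.homMk sq.isoPullback.hom sq.isoPullback_hom_snd
  let f : T₀ ⟶ D := MorphismProperty.Over.homMk (g ≫ O.ι) (by
    rw [Category.assoc, ← Scheme.Hom.resLE_comp_ι D.hom hOle]; exact hg)
  have hto : toG.left ≫ pullback.fst C₀.hom i = bC := sq.isoPullback_hom_fst
  have hdec : Decomposable T₀ := decomposable_of_isWContractible T₀
    (wc_of_ringEquiv (Scheme.ΓSpecIso T).commRingCatIsoToRingEquiv.symm hwc)
  have hfst : ∀ (E : X.ProEt) (c : C₀ ⟶ E),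
      (toG ≫ (ProEtS.bcP i).map c).left ≫ pullback.fst E.hom i = bC ≫ c.left := fun E c => by
    show (toG.left ≫ ((ProEtS.bcP i).map c).left) ≫ pullback.fst E.hom i = _
    rw [Category.assoc]
    exact (congrArg (toG.left ≫ ·) (ProEtCont.isPullback_bcP_map i c).w.symm).trans ((reassoc_of% hto) c.left)
  have hiso : IsIso toG := ⟨MorphismProperty.Over.homMk sq.isoPullback.inv sq.isoPullback_inv_snd,
    MorphismProperty.Over.Hom.ext sq.isoPullback.hom_inv_id, MorphismProperty.Over.Hom.ext sq.isoPullback.inv_hom_id⟩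
  refine ⟨O, C₀, T₀, toG, f, hxO, hO, ⟨inferInstance, inferInstance, hdec, hiso, fun V m => ?_⟩, ?_, ?_⟩
  · refine existsUnique_of_exists_of_unique ?_ fun c c' hc hc' => ?_
    swap
    · refine MorphismProperty.Over.Hom.ext (lift_unique bC hcl c.left c'.left
        ((Over.w c.hom).trans (Over.w c'.hom).symm) ?_)
      rw [← hfst, ← hfst, hc, hc']
    let φ : T₀.left ⟶ V.left := m.left ≫ pullback.fst V.hom i
    have hφ : φ ≫ V.hom = bZ ≫ i := by
      rw [show φ ≫ V.hom = m.left ≫ pullback.fst V.hom i ≫ V.hom from Category.assoc _ _ _, pullback.condition,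
        ← Category.assoc]
      exact congrArg (· ≫ i) (Over.w m.hom)
    have hφP : ∀ t, φ t ∈ V.hom ⁻¹ᵁ P := fun t => by
      show (φ ≫ V.hom) t ∈ P
      rw [hφ, ← sq.w, ← Category.assoc, Scheme.Hom.comp_apply]
      exact (Scheme.Opens.range_ι P).le ⟨_, rfl⟩
    choose Vt hVt hmem hle using fun t => exists_isAffineOpen_mem_and_subset (X := V.left) (x := φ t)
      (U := V.hom ⁻¹ᵁ P) (hφP t)
    haveI : ∀ t, IsOpenImmersion (pieceHom T₀ (φ ⁻¹ᵁ Vt t)).left := fun t =>
      inferInstanceAs (IsOpenImmersion (φ ⁻¹ᵁ Vt t).ι)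
    obtain ⟨n, W, -, hd, hc, hR⟩ := hdec _ (zariski_mem_topology (fun t => piece T₀ (φ ⁻¹ᵁ Vt t))
      (fun t => pieceHom T₀ (φ ⁻¹ᵁ Vt t)) fun t => ⟨t, (Scheme.Opens.range_ι _).ge (hmem t)⟩)
    have hk : ∀ l, ∃ t, W l ≤ φ ⁻¹ᵁ Vt t := fun l => by
      obtain ⟨Y, h, p, hp, e⟩ := hR l
      obtain ⟨t⟩ := hp
      refine ⟨t, fun w hw => ?_⟩
      obtain ⟨w', rfl⟩ := (Scheme.Opens.range_ι (W l)).ge hw
      have e' := congrArg (fun q => q.left w') e
      exact (Scheme.Opens.range_ι (φ ⁻¹ᵁ Vt t)).le ⟨h.left w', e'⟩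
    choose k hk using hk
    haveI : ∀ l, IsAffine (Vt (k l)).toScheme := fun l => hVt (k l)
    haveI : ∀ l, WeaklyEtale (V.hom.resLE P (Vt (k l)) (hle (k l))) := fun l => by
      haveI : WeaklyEtale (V.hom.resLE P (Vt (k l)) (hle (k l)) ≫ P.ι) := by
        rw [Scheme.Hom.resLE_comp_ι]; infer_instance
      exact WeaklyEtale.of_comp _ P.ι
    let v : (∐ fun l => (Vt (k l)).toScheme) ⟶ P.toScheme := Sigma.desc fun l => V.hom.resLE P (Vt (k l)) (hle (k l))
    haveI : WeaklyEtale v := IsZariskiLocalAtSource.sigmaDesc (P := @WeaklyEtale) fun l => inferInstance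
    let V' : X.ProEt := Scheme.ProEt.mk (v ≫ P.ι)
    let π : V' ⟶ V := MorphismProperty.Over.homMk (Sigma.desc fun l => (Vt (k l)).ι) (by
      refine Sigma.hom_ext _ _ fun l => ?_
      simp [V', v])
    have hYZ : ∀ E : X.ProEt, Presieve.IsSheaf (Scheme.ProEt.topology Z) (yoneda.obj ((ProEtS.bcP i).obj E)) :=
      fun E => GrothendieckTopology.Subcanonical.isSheaf_of_isRepresentable _
    let ml : ∀ l, piece T₀ (W l) ⟶ (ProEtS.bcP i).obj V' := fun l => MorphismProperty.Over.homMk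
      (pullback.lift (φ.resLE (Vt (k l)) (W l) (hk l) ≫ Sigma.ι (fun l => (Vt (k l)).toScheme) l) ((W l).ι ≫ bZ) (by
        show (_ ≫ Sigma.ι _ l) ≫ v ≫ P.ι = _
        simp [v, hφ]))
      (pullback.lift_snd _ _ _)
    obtain ⟨m', hm', -⟩ := existsUnique_glue (hYZ V') W hd hc ml
    have hm : m' ≫ (ProEtS.bcP i).map π = m := by
      refine (existsUnique_glue (hYZ V) W hd hc fun l => pieceHom T₀ (W l) ≫ m).unique (fun l => ?_) fun l => rfl
      show pieceHom T₀ (W l) ≫ m' ≫ (ProEtS.bcP i).map π = pieceHom T₀ (W l) ≫ m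
      rw [← Category.assoc, show pieceHom T₀ (W l) ≫ m' = ml l from hm' l]
      refine MorphismProperty.Over.Hom.ext (pullback.hom_ext ?_ ?_)
      · show ((ml l).left ≫ ((ProEtS.bcP i).map π).left) ≫ pullback.fst V.hom i = ((W l).ι ≫ m.left) ≫ pullback.fst V.hom i
        rw [Category.assoc, Category.assoc]
        refine (congrArg ((ml l).left ≫ ·) (ProEtCont.isPullback_bcP_map i π).w.symm).trans ?_
        show (pullback.lift _ _ _) ≫ pullback.fst V'.hom i ≫ π.left = (W l).ι ≫ φ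
        rw [pullback.lift_fst_assoc, Category.assoc]
        simp [π]
      · exact (Over.w (ml l ≫ (ProEtS.bcP i).map π).hom).trans (Over.w (pieceHom T₀ (W l) ≫ m).hom).symm
    haveI : IsAffine V'.left := inferInstanceAs (IsAffine (∐ fun l => (Vt (k l)).toScheme))
    obtain ⟨c, hc1, hc2⟩ := hlift (∐ fun l => (Vt (k l)).toScheme) v (m'.left ≫ pullback.fst V'.hom i) (by
      rw [← cancel_mono P.ι, Category.assoc, Category.assoc, Category.assoc, sq.w]
      show m'.left ≫ pullback.fst V'.hom i ≫ V'.hom = bZ ≫ i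
      rw [pullback.condition, ← Category.assoc]
      exact congrArg (· ≫ i) (Over.w m'.hom))
    let c' : C₀ ⟶ V' := MorphismProperty.Over.homMk c (by
      show c ≫ v ≫ P.ι = cP ≫ P.ι
      rw [reassoc_of% hc1])
    refine ⟨c' ≫ π, ?_⟩
    rw [Functor.map_comp, ← Category.assoc, ← hm]
    congr 1
    refine MorphismProperty.Over.Hom.ext (pullback.hom_ext ?_ ?_)
    · exact (hfst V' c').trans hc2
    · exact (Over.w (toG ≫ (ProEtS.bcP i).map c').hom).trans (Over.w m'.hom).symm
  · rintro _ ⟨w, rfl⟩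
    exact (Scheme.Opens.range_ι O).le ⟨g w, rfl⟩
  · intro y hy
    obtain ⟨y', rfl⟩ := (Scheme.Opens.range_ι O).ge hy
    obtain ⟨w, hw⟩ := g.surjective y'
    exact ⟨w, by show (g ≫ O.ι) w = _; rw [Scheme.Hom.comp_apply, hw]⟩

/-- the arrows from lift pairs generate a covering sieve -/
theorem liftPairs_mem (D : Z.ProEt) (R : Sieve D)
    (hR : ∀ (C₀ : X.ProEt) (T₀ : Z.ProEt) (toG : T₀ ⟶ (ProEtS.bcP i).obj C₀) (f : T₀ ⟶ D),
      IsLiftPair toG → R f) :
    R ∈ Scheme.ProEt.topology Z D := by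
  refine mem_topology_of_pieces R fun x => ?_
  obtain ⟨O, C₀, T₀, toG, f, hxO, hO, h, hr, hs⟩ := exists_liftPair i D x
  exact ⟨O, hxO, hO, PUnit, inferInstance, fun _ => T₀, fun _ => f, fun _ => h.affine, fun _ => hR _ _ _ _ h,
    fun _ => hr, fun y hy => ⟨⟨⟩, hs y hy⟩⟩

end Groth.Agent.ProEtInv
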