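import Groth.Agent.ProEtInv.Ring
import Groth.Agent.IndEtLift.Basic
import Groth.Agent.IndEtLib.Basic
import Groth.Agent.WContr.WEtPi
import Groth.Agent.S0176
import Groth.Agent.S0736
import Groth.Agent.S9436
import Groth.Prelude.Def_ProEtW
import Mathlib

/-!
# Henselian lifts of w-contractible algebras along quotient maps
-/

set_option autoImplicit false
set_option linter.style.haveILetI false
set_option backward.isDefEq.respectTransparency false
set_option maxHeartbeats 800000

universe u

open CategoryTheory CategoryTheory.Limits TensorProduct PrimeSpectrum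

namespace Groth.Agent.ProEtInv

variable {A : Type u} [CommRing A]

/-- maps out of a weakly étale algebra are determined modulo an ideal in the Jacobson radical -/
theorem algHom_ext_jacobson {R S : Type u} [CommRing R] [Algebra A R] [Algebra.WeaklyEtale A R]
    [CommRing S] [Algebra A S] (J : Ideal S) (hJ : J ≤ Ring.jacobson S) (f g : R →ₐ[A] S)
    (hfg : ∀ r, f r - g r ∈ J) : f = g := by
  have key : ∀ k : R →ₐ[A] S, (RingHom.ker (Algebra.TensorProduct.lift (Algebra.ofId S S) k
      fun x y => Commute.all _ _).toRingHom).Pure := by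
    intro k
    let σ : S ⊗[A] R →ₐ[S] S := Algebra.TensorProduct.lift (Algebra.ofId S S) k fun x y => Commute.all _ _
    letI : Algebra (S ⊗[A] R) S := σ.toRingHom.toAlgebra
    haveI : IsScalarTower S (S ⊗[A] R) S := IsScalarTower.of_algebraMap_eq fun a => (σ.commutes a).symm
    haveI := WeakEt.weaklyEtale_of_comp S (S ⊗[A] R) S
    have hflat : Module.Flat (S ⊗[A] R) S := inferInstance
    exact (WeakEt.flat_iff_kernel_pure (f := σ.toRingHom) fun s => ⟨s ⊗ₜ 1, by simp [σ]⟩).1 hflat
  let σf : S ⊗[A] R →ₐ[S] S := Algebra.TensorProduct.lift (Algebra.ofId S S) f fun x y => Commute.all _ _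
  let σg : S ⊗[A] R →ₐ[S] S := Algebra.TensorProduct.lift (Algebra.ofId S S) g fun x y => Commute.all _ _
  haveI hPf : (RingHom.ker σf.toRingHom).Pure := key f
  haveI hPg : (RingHom.ker σg.toRingHom).Pure := key g
  have hmod : ∀ x, σf x - σg x ∈ J := fun x => by
    induction x using TensorProduct.induction_on with
    | zero => simp
    | tmul s r =>
      have h1 := J.mul_mem_left s (hfg r)
      simpa [σf, σg, mul_sub] using h1
    | add a b ha hb =>
      rw [map_add, map_add, show σf a + σf b - (σg a + σg b) = (σf a - σg a) + (σf b - σg b) by ring]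
      exact J.add_mem ha hb
  have hsf : Function.Surjective σf.toRingHom := fun s => ⟨s ⊗ₜ 1, by simp [σf]⟩
  have hsg : Function.Surjective σg.toRingHom := fun s => ⟨s ⊗ₜ 1, by simp [σg]⟩
  have hsub : ∀ (σ τ : S ⊗[A] R →ₐ[S] S) [(RingHom.ker τ.toRingHom).Pure],
      Function.Surjective τ.toRingHom → (∀ x, σ x - τ x ∈ J) →
      Set.range (PrimeSpectrum.comap σ.toRingHom) ⊆ zeroLocus (RingHom.ker τ.toRingHom : Set (S ⊗[A] R)) := by
    intro σ τ _ hτ hστ
    rintro _ ⟨p, rfl⟩
    obtain ⟨m, hm, hpm⟩ := Ideal.exists_le_maximal p.asIdeal p.2.ne_top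
    refine mem_zeroLocus_of_le (p := PrimeSpectrum.comap τ.toRingHom ⟨m, hm.isPrime⟩) (fun x hx => ?_) ?_
    · show τ x ∈ m
      have h1 : σ x ∈ m := hpm hx
      have h2 : σ x - τ x ∈ m := by
        have := hJ (hστ x)
        rw [Ring.jacobson_eq_sInf_isMaximal, Submodule.mem_sInf] at this
        exact this m hm
      simpa using m.sub_mem h1 h2
    · intro x (hx : τ x = 0)
      show τ x ∈ m
      rw [hx]
      exact m.zero_mem
  have hker : RingHom.ker σf.toRingHom = RingHom.ker σg.toRingHom := by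
    rw [← Ideal.zeroLocus_inj_of_pure]
    apply Set.Subset.antisymm
    · rw [← range_comap_of_surjective _ _ hsf]
      exact hsub σf σg hsg hmod
    · rw [← range_comap_of_surjective _ _ hsg]
      exact hsub σg σf hsf fun x => by simpa using J.neg_mem (hmod x)
  refine AlgHom.ext fun w => ?_
  have hmem : (1 : S) ⊗ₜ[A] w - f w ⊗ₜ[A] (1 : R) ∈ RingHom.ker σf.toRingHom := by
    rw [RingHom.mem_ker]
    simp [σf]
  rw [hker, RingHom.mem_ker] at hmem
  simp [σg, sub_eq_zero] at hmem
  exact hmem.symm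

open IndEtLift in
/-- w-contractible ind-étale algebras over a quotient have henselian lifts receiving all weakly étale algebras -/
theorem exists_lift_wc (I : Ideal A) (T : Type u) [CommRing T] [Algebra (A ⧸ I) T] [Algebra A T]
    [IsScalarTower A (A ⧸ I) T] (hind : EtPBC.IsIndEtale (A ⧸ I) T) (hT : ProEtW.HasIndEtaleRetractions T) :
    ∃ (C : Type u) (_ : CommRing C) (_ : Algebra A C) (π : C →ₐ[A] T),
      EtPBC.IsIndEtale A C ∧ Function.Surjective π ∧ RingHom.ker π.toRingHom = I.map (algebraMap A C) ∧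
        I.map (algebraMap A C) ≤ Ring.jacobson C ∧
        ∀ (R : Type u) [CommRing R] [Algebra A R] [Algebra.WeaklyEtale A R] (φ : R →ₐ[A] T),
          ∃ f : R →ₐ[A] C, π.comp f = φ := by
  let D := dia A T
  let c : Cocone D := colimit.cocone D
  let hc : IsColimit c := colimit.isColimit D
  let F := Under.forget (CommRingCat.of A) ⋙ forget CommRingCat.{u}
  have hF : IsColimit (F.mapCocone c) := isColimitOfPreserves F hc
  let C : Type u := c.pt.right
  letI : Algebra A C := c.pt.hom.hom.toAlgebra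
  let ι : ∀ X : Obj A T, X.E →ₐ[A] C := fun X =>
    { (c.ι.app X).right.hom with commutes' := fun a => congr($(Under.w (c.ι.app X)) a) }
  have hι : ∀ x : C, ∃ (X : Obj A T) (y : X.E), ι X y = x := fun x => Types.jointly_surjective _ hF x
  have hιw : ∀ {X Y : Obj A T} (f : X ⟶ Y) (y : X.E), ι Y (f.1 y) = ι X y := fun f y =>
    congr(($(c.w f)).right y)
  have hindC : EtPBC.IsIndEtale A C := by
    refine ⟨Obj A T, inferInstance, inferInstance, D, c, hc, fun X => ?_, ⟨Iso.refl _⟩⟩
    change @Algebra.Etale A X.E _ _ (algebraMap A X.E).toAlgebra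
    rw [show (algebraMap A X.E).toAlgebra = (inferInstance : Algebra A X.E) from
      Algebra.algebra_ext _ _ fun r => rfl]
    infer_instance
  let s : Cocone D :=
    { pt := Under.mk (CommRingCat.ofHom (algebraMap A T))
      ι :=
        { app := fun X => Under.homMk (CommRingCat.ofHom X.φ.toRingHom)
            (CommRingCat.hom_ext (RingHom.ext fun a => X.φ.commutes a))
          naturality := fun X Y f => Under.UnderMorphism.ext (CommRingCat.hom_ext
            (RingHom.ext fun x => congr($(f.2) x))) } }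
  let π : C →ₐ[A] T :=
    { (hc.desc s).right.hom with commutes' := fun a => congr($(Under.w (hc.desc s)) a) }
  have hπι : ∀ (X : Obj A T) (y : X.E), π (ι X y) = X.φ y := fun X y => congr(($(hc.fac s X)).right y)
  have hunit : ∀ z : C, IsUnit (π z) → IsUnit z := fun z hz => by
    obtain ⟨X, y, rfl⟩ := hι z
    obtain ⟨Y, f, hf⟩ := exists_away X y (by rwa [← hπι])
    rw [← hιw f]
    exact hf.map (ι Y)
  have hsurj : Function.Surjective π := fun b => by
    obtain ⟨sys⟩ := Groth.Agent.IndEtLib.exists_system hind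
    obtain ⟨S, -, hS⟩ := sys.surj {b}
    obtain ⟨x, hx⟩ := hS b (Finset.mem_singleton_self b)
    obtain ⟨E, _, _, hE, ⟨e⟩⟩ := Groth.Agent.S9436.result A I S.E
    haveI := hE
    let φ : E →ₐ[A] T :=
      ((S.φ.comp e.toAlgHom).restrictScalars A).comp (Algebra.TensorProduct.includeRight : E →ₐ[A] (A ⧸ I) ⊗[A] E)
    have hz : ∀ z : (A ⧸ I) ⊗[A] E, ∃ y : E, 1 ⊗ₜ[A] y = z := fun z => by
      induction z using TensorProduct.induction_on with
      | zero => exact ⟨0, tmul_zero _ _⟩
      | tmul a y =>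
        obtain ⟨a, rfl⟩ := Ideal.Quotient.mk_surjective a
        refine ⟨a • y, ?_⟩
        rw [tmul_smul, smul_tmul', ← Ideal.Quotient.algebraMap_eq, Algebra.algebraMap_eq_smul_one]
      | add u v hu hv =>
        obtain ⟨p, rfl⟩ := hu
        obtain ⟨q, rfl⟩ := hv
        exact ⟨p + q, tmul_add _ _ _⟩
    obtain ⟨y, hy⟩ := hz (e.symm x)
    obtain ⟨X, e', he'⟩ := exists_obj E φ
    refine ⟨ι X (e' y), ?_⟩
    rw [hπι, show X.φ (e' y) = φ y from congr($he' y)]
    change S.φ (e (1 ⊗ₜ[A] y)) = b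
    rw [hy, e.apply_symm_apply, hx]
  haveI : Algebra.WeaklyEtale A C := Groth.Agent.S0736.result A C hindC
  haveI : Algebra.WeaklyEtale (A ⧸ I) T := Groth.Agent.S0736.result (A ⧸ I) T hind
  have hle : I.map (algebraMap A C) ≤ RingHom.ker π.toRingHom := Ideal.map_le_iff_le_comap.2 fun a ha => by
    show π (algebraMap A C a) = 0
    rw [π.commutes, IsScalarTower.algebraMap_apply A (A ⧸ I) T, Ideal.Quotient.algebraMap_eq,
      Ideal.Quotient.eq_zero_iff_mem.2 ha, map_zero]
  have hjac : RingHom.ker π.toRingHom ≤ Ring.jacobson C := fun z hz => by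
    rw [Ring.jacobson_eq_sInf_isMaximal, Submodule.mem_sInf]
    intro m hm
    by_contra hzm
    obtain ⟨a, b, hb, hab⟩ := hm.exists_inv hzm
    have hu : IsUnit b := hunit b (by
      have h1 := congrArg π hab
      rw [map_add, map_mul, show π z = 0 from hz, mul_zero, zero_add, map_one] at h1
      rw [h1]
      exact isUnit_one)
    exact hm.ne_top (Ideal.eq_top_of_isUnit_mem m hb hu)
  let Φ : (A ⧸ I) ⊗[A] C →ₐ[A ⧸ I] T :=
    Algebra.TensorProduct.lift (Algebra.ofId (A ⧸ I) T) π fun _ _ => Commute.all _ _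
  have hincl : ∀ z : (A ⧸ I) ⊗[A] C, ∃ y : C, (1 : A ⧸ I) ⊗ₜ[A] y = z := fun z => by
    induction z using TensorProduct.induction_on with
    | zero => exact ⟨0, tmul_zero _ _⟩
    | tmul a y =>
      obtain ⟨a, rfl⟩ := Ideal.Quotient.mk_surjective a
      refine ⟨a • y, ?_⟩
      rw [tmul_smul, smul_tmul', ← Ideal.Quotient.algebraMap_eq, Algebra.algebraMap_eq_smul_one]
    | add u v hu hv =>
      obtain ⟨p, rfl⟩ := hu
      obtain ⟨q, rfl⟩ := hv
      exact ⟨p + q, tmul_add _ _ _⟩
  have hΦs : Function.Surjective Φ.toRingHom := fun b => by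
    obtain ⟨z, rfl⟩ := hsurj b
    exact ⟨1 ⊗ₜ z, by simp [Φ]⟩
  have hΦu : ∀ q, IsUnit (Φ q) → IsUnit q := fun q hq => by
    obtain ⟨y, rfl⟩ := hincl q
    exact (hunit y (by simpa [Φ] using hq)).map
      (Algebra.TensorProduct.includeRight : C →ₐ[A] (A ⧸ I) ⊗[A] C).toRingHom
  have hker : RingHom.ker π.toRingHom = I.map (algebraMap A C) := by
    refine le_antisymm (fun z hz => ?_) hle
    letI : Algebra ((A ⧸ I) ⊗[A] C) T := Φ.toRingHom.toAlgebra
    haveI : IsScalarTower (A ⧸ I) ((A ⧸ I) ⊗[A] C) T := IsScalarTower.of_algebraMap_eq fun a => (Φ.commutes a).symm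
    haveI := WeakEt.weaklyEtale_of_comp (A ⧸ I) ((A ⧸ I) ⊗[A] C) T
    have hflat : Φ.toRingHom.Flat := by
      change Module.Flat ((A ⧸ I) ⊗[A] C) T
      infer_instance
    haveI : (RingHom.ker Φ.toRingHom).Pure := (WeakEt.flat_iff_kernel_pure hΦs).1 hflat
    have hx0 : (1 : A ⧸ I) ⊗ₜ[A] z ∈ RingHom.ker Φ.toRingHom := by
      rw [RingHom.mem_ker]
      simpa [Φ] using hz
    obtain ⟨y, hy, hxy⟩ := Ideal.exists_eq_mul_of_pure (I := RingHom.ker Φ.toRingHom) hx0
    have hu : IsUnit (1 - y) := hΦu _ (by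
      rw [map_sub, map_one, show Φ y = 0 from hy, sub_zero]
      exact isUnit_one)
    have hz0 : (1 : A ⧸ I) ⊗ₜ[A] z = 0 :=
      hu.mul_left_eq_zero.1 (by rw [mul_sub, mul_one, ← hxy, sub_self])
    rw [← Algebra.TensorProduct.quotIdealMapEquivQuotTensor_mk, EmbeddingLike.map_eq_zero_iff,
      Ideal.Quotient.eq_zero_iff_mem] at hz0
    exact hz0
  refine ⟨C, inferInstance, inferInstance, π, hindC, hsurj, hker, hle.trans hjac, fun R _ _ _ φ => ?_⟩
  obtain ⟨R', _, _, _, _, hff, hRR', hindR'⟩ := Groth.Agent.S0176.result A R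
  letI : Algebra R T := φ.toRingHom.toAlgebra
  haveI : IsScalarTower A R T := IsScalarTower.of_algebraMap_eq fun a => (φ.commutes a).symm
  obtain ⟨r⟩ := hT (T ⊗[R] R') inferInstance (Groth.Agent.IndEtLib.baseChange T hRR')
  let φ' : R' →ₐ[A] T :=
    (r.restrictScalars A).comp ((Algebra.TensorProduct.includeRight : R' →ₐ[R] T ⊗[R] R').restrictScalars A)
  obtain ⟨J, _, _, E, cE, hcE, hE, ⟨eE⟩⟩ := hindR'
  let cE' : Cocone E := cE.extend eE.hom
  have hcE' : IsColimit cE' := IsColimit.extendIso eE.hom hcE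
  letI : ∀ j, Algebra A (E.obj j).right := fun j => (E.obj j).hom.hom.toAlgebra
  haveI : ∀ j, Algebra.Etale A (E.obj j).right := hE
  let κ : ∀ j, (E.obj j).right →ₐ[A] R' := fun j =>
    { (cE'.ι.app j).right.hom with commutes' := fun a => congr($(Under.w (cE'.ι.app j)) a) }
  choose O eO hO using fun j => exists_obj (E.obj j).right (φ'.comp (κ j))
  let tr : ∀ {i j : J}, (i ⟶ j) → ((E.obj i).right →ₐ[A] (E.obj j).right) := fun {i j} f =>
    { (E.map f).right.hom with commutes' := fun a => congr($(Under.w (E.map f)) a) }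
  have hnat : ∀ {i j : J} (f : i ⟶ j) (x : (E.obj i).right), ι (O j) (eO j (tr f x)) = ι (O i) (eO i x) := by
    intro i j f x
    let m : O i ⟶ O j := ⟨((eO j).toAlgHom.comp (tr f)).comp (eO i).symm.toAlgHom, AlgHom.ext fun y => by
      obtain ⟨y, rfl⟩ := (eO i).surjective y
      show (O j).φ (eO j (tr f ((eO i).symm (eO i y)))) = (O i).φ (eO i y)
      rw [AlgEquiv.symm_apply_apply, show (O j).φ (eO j (tr f y)) = φ' (κ j (tr f y)) from congr($(hO j) _),
        show (O i).φ (eO i y) = φ' (κ i y) from congr($(hO i) _)]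
      exact congrArg φ' congr(($(cE'.w f)).right y)⟩
    refine Eq.trans ?_ (hιw m (eO i x))
    show _ = ι (O j) (eO j (tr f ((eO i).symm (eO i x))))
    rw [AlgEquiv.symm_apply_apply]
  let cC : Cocone E :=
    { pt := Under.mk (CommRingCat.ofHom (algebraMap A C))
      ι :=
        { app := fun j => Under.homMk (CommRingCat.ofHom ((ι (O j)).comp (eO j).toAlgHom).toRingHom)
            (CommRingCat.hom_ext (RingHom.ext fun a => ((ι (O j)).comp (eO j).toAlgHom).commutes a))
          naturality := fun i j f => Under.UnderMorphism.ext (CommRingCat.hom_ext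
            (RingHom.ext fun x => hnat f x)) } }
  let f' : R' →ₐ[A] C :=
    { (hcE'.desc cC).right.hom with commutes' := fun a => congr($(Under.w (hcE'.desc cC)) a) }
  refine ⟨f'.comp (IsScalarTower.toAlgHom A R R'), AlgHom.ext fun x => ?_⟩
  have h3 : ∀ y : R', π (f' y) = φ' y := by
    intro y
    obtain ⟨j, x, rfl⟩ := Types.jointly_surjective _
      (isColimitOfPreserves (Under.forget (CommRingCat.of A) ⋙ forget CommRingCat.{u}) hcE') y
    show π (f' (κ j x)) = φ' (κ j x)
    rw [show f' (κ j x) = ι (O j) (eO j x) from congr(($(hcE'.fac cC j)).right x), hπι]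
    exact congr($(hO j) x)
  show π (f' (algebraMap R R' x)) = φ x
  rw [h3]
  show r ((1 : T) ⊗ₜ[R] algebraMap R R' x) = φ x
  rw [Algebra.algebraMap_eq_smul_one, ← smul_tmul, ← Algebra.algebraMap_eq_smul_one]
  exact r.commutes (φ x)

end Groth.Agent.ProEtInv
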