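import Groth.Agent.ProEtInv.Eval
import Groth.Agent.ProEtInv.OpenImm
import Mathlib

/-!
# Recollement on the pro-étale site
-/

set_option autoImplicit false
set_option linter.style.haveILetI false
set_option backward.isDefEq.respectTransparency false
set_option maxHeartbeats 1600000
set_option synthInstance.maxHeartbeats 400000

universe u

open CategoryTheory CategoryTheory.Limits AlgebraicGeometry Opposite

namespace Groth.Agent.ProEtInv

open Groth.Agent.WContr

theorem subsingleton_sections_of_isEmpty {Y : Scheme.{u}} (A : ProEtS.AbP Y) (D : Y.ProEt) [IsEmpty D.left] :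
    Subsingleton (A.obj.obj (op D)) := by
  have hA : Presieve.IsSheaf (Scheme.ProEt.topology Y) (A.obj ⋙ forget AddCommGrpCat.{u + 1}) :=
    (isSheaf_iff_isSheaf_of_type _ _).1 ((sheafCompose _ (forget AddCommGrpCat.{u + 1})).obj A).property
  exact ⟨fun a b => (hA _ (Scheme.ProEt.bot_mem_topology D)).isSeparatedFor.ext fun Y f hf => hf.elim⟩

variable {U X Z : Scheme.{u}} (i : Z ⟶ X) [IsClosedImmersion i]

/-- the unit of the inverse image is bijective on lift pairs -/
theorem bijective_unit_pair [ProEtS.PCont i] {C₀ : X.ProEt} {T₀ : Z.ProEt} {toG : T₀ ⟶ (ProEtS.bcP i).obj C₀}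
    (h : IsLiftPair toG) (F : ProEtS.AbP X) :
    Function.Bijective fun s => ((ProEtS.pullP i).obj F).obj.map toG.op
      (((ProEtS.pullPushAdjP i).unit.app F).hom.app (op C₀) s) := by
  let e := Functor.sheafPullbackConstruction.sheafPullbackIso (ProEtS.bcP i) AddCommGrpCat.{u + 1}
    (Scheme.ProEt.topology X) (Scheme.ProEt.topology Z)
  let adj' := Functor.sheafPullbackConstruction.sheafAdjunctionContinuous (ProEtS.bcP i) AddCommGrpCat.{u + 1}
    (Scheme.ProEt.topology X) (Scheme.ProEt.topology Z)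
  have h1 : (ProEtS.pullPushAdjP i).unit.app F ≫ (ProEtS.pushP i).map (e.hom.app F) = adj'.unit.app F :=
    Adjunction.unit_leftAdjointUniq_hom_app _ _ F
  have h2 : (adj'.unit.app F).hom =
      (ProEtS.bcP i).op.lanUnit.app F.obj ≫
        Functor.whiskerLeft (ProEtS.bcP i).op
          (toSheafify (Scheme.ProEt.topology Z) ((ProEtS.bcP i).op.lan.obj F.obj)) := by
    have h3 := Adjunction.map_restrictFullyFaithful_unit_app
      (adj := (((ProEtS.bcP i).op.lanAdjunction AddCommGrpCat.{u + 1}).comp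
        (sheafificationAdjunction (Scheme.ProEt.topology Z) AddCommGrpCat.{u + 1})))
      (hiC := fullyFaithfulSheafToPresheaf (Scheme.ProEt.topology X) AddCommGrpCat.{u + 1})
      (hiD := Functor.FullyFaithful.id _)
      (comm1 := Iso.refl ((sheafToPresheaf (Scheme.ProEt.topology X) AddCommGrpCat.{u + 1}) ⋙
        (ProEtS.bcP i).op.lan ⋙ presheafToSheaf (Scheme.ProEt.topology Z) AddCommGrpCat.{u + 1}))
      (comm2 := Iso.refl _) (L := Functor.sheafPullbackConstruction.sheafPullback (ProEtS.bcP i)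
        AddCommGrpCat.{u + 1} (Scheme.ProEt.topology X) (Scheme.ProEt.topology Z))
      (R := ProEtS.pushP i) F
    refine Eq.trans h3 ?_
    simp [Functor.lanAdjunction_unit]
  have key : ∀ s, (e.hom.app F).hom.app (op T₀) (((ProEtS.pullP i).obj F).obj.map toG.op
      (((ProEtS.pullPushAdjP i).unit.app F).hom.app (op C₀) s)) = (evalHom i toG).app F s := fun s => by
    rw [NatTrans.naturality_apply]
    have h4 := congrArg (fun q => q.hom.app (op C₀) s) h1
    simp only [h2] at h4
    refine (congrArg _ h4).trans ?_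
    exact (NatTrans.naturality_apply (toSheafify (Scheme.ProEt.topology Z) ((ProEtS.bcP i).op.lan.obj F.obj))
      toG.op (((ProEtS.bcP i).op.lanUnit.app F.obj).app (op C₀) s)).symm
  haveI : IsIso ((e.hom.app F).hom.app (op T₀)) :=
    inferInstanceAs (IsIso (((sheafToPresheaf _ _ ⋙ (evaluation _ _).obj (op T₀))).map (e.hom.app F)))
  refine (Function.Bijective.of_comp_iff' (ConcreteCategory.bijective_of_isIso ((e.hom.app F).hom.app (op T₀))) _).1 ?_
  rw [show (⇑((e.hom.app F).hom.app (op T₀)) ∘ fun s => ((ProEtS.pullP i).obj F).obj.map toG.op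
      (((ProEtS.pullPushAdjP i).unit.app F).hom.app (op C₀) s)) = ⇑((evalHom i toG).app F) from funext key]
  exact bijective_evalHom i h F

/-- covering by pairs: every affine object whose points specialise into the closed subscheme -/
theorem mem_of_pairs {V : X.ProEt} [IsAffine V.left]
    (hV : ∀ v : V.left, ∃ z : V.left, V.hom z ∈ Set.range i ∧ v ⤳ z) (R : Sieve V)
    (hR : ∀ (C₀ : X.ProEt) (T₀ : Z.ProEt) (toG : T₀ ⟶ (ProEtS.bcP i).obj C₀) (c : C₀ ⟶ V),
      IsLiftPair toG → R c) : R ∈ Scheme.ProEt.topology X V := by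
  obtain ⟨n, C, c, hC, hcR, hcs⟩ : ∃ (n : ℕ) (C : Fin n → X.ProEt) (c : ∀ k, C k ⟶ V),
      (∀ k, IsAffine (C k).left) ∧ (∀ k, R (c k)) ∧
        ∀ z : V.left, V.hom z ∈ Set.range i → ∃ k, z ∈ Set.range (c k).left := by
    let D := (ProEtS.bcP i).obj V
    haveI : IsAffineHom (pullback.fst V.hom i : D.left ⟶ V.left) := bcP_fst_prop i @IsAffineHom inferInstance V
    haveI : IsAffine ((𝟭 Scheme.{u}).obj V.left) := ‹_›
    haveI : IsAffine D.left := isAffine_of_isAffineHom (pullback.fst V.hom i : D.left ⟶ V.left)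
    choose O C₀ T₀ toG f hxO hO hpair hr hs using exists_liftPair i D
    obtain ⟨s, hscov⟩ := isCompact_univ.elim_finite_subcover (fun x => (O x : Set D.left)) (fun x => (O x).2)
      (fun x _ => Set.mem_iUnion.2 ⟨x, hxO x⟩)
    let x' := fun k : Fin s.card => (s.equivFin.symm k : D.left)
    choose c hc using fun k => ((hpair (x' k)).univ V (f (x' k))).exists
    refine ⟨s.card, fun k => C₀ (x' k), c, fun k => (hpair _).affineLift,
      fun k => hR _ _ _ _ (hpair (x' k)), fun z ⟨w, hw⟩ => ?_⟩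
    obtain ⟨y, hy1, -⟩ := Scheme.exists_preimage_of_isPullback (IsPullback.of_hasPullback V.hom i) z w hw.symm
    obtain ⟨x, hxs, hyx⟩ := Set.mem_iUnion₂.1 (hscov (Set.mem_univ y))
    have hk : x' (s.equivFin ⟨x, hxs⟩) = x := by simp [x']
    obtain ⟨t, ht⟩ := hs (x' (s.equivFin ⟨x, hxs⟩)) y (hk.symm ▸ hyx)
    refine ⟨s.equivFin ⟨x, hxs⟩, (pullback.fst (C₀ _).hom i) ((toG _).left t), ?_⟩
    rw [← hy1, ← ht, ← hc]
    exact congrArg (fun m => m ((toG _).left t)) (ProEtCont.isPullback_bcP_map i (c _)).w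
  refine mem_topology_of_pieces R fun x => ⟨⊤, trivial, isAffineOpen_top V.left, ULift.{u} (Fin n), inferInstance,
    fun k => C k.down, fun k => c k.down, fun k => hC _, fun k => hcR _, fun k => by simp, fun y _ => ?_⟩
  obtain ⟨z, hz, hyz⟩ := hV y
  obtain ⟨k, w, rfl⟩ := hcs z hz
  haveI : WeaklyEtale ((c k).left ≫ V.hom) := by
    rw [show (c k).left ≫ V.hom = (C k).hom from Over.w (c k).hom]; infer_instance
  haveI : WeaklyEtale (c k).left := WeaklyEtale.of_comp (c k).left V.hom
  obtain ⟨w', -, hw'⟩ := Flat.generalizingMap (c k).left hyz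
  exact ⟨⟨k⟩, w', hw'⟩

variable (j : U ⟶ X)

/-- extension by zero vanishes on lift pairs -/
theorem subsingleton_extZero_pair [WeaklyEtale j] [ProEtS.JPCont j] [ProEtS.PCont i]
    (hUZ : Disjoint (Set.range j) (Set.range i)) {C₀ : X.ProEt} {T₀ : Z.ProEt}
    {toG : T₀ ⟶ (ProEtS.bcP i).obj C₀} (h : IsLiftPair toG) (H : ProEtS.AbP U) :
    Subsingleton (((ProEtS.extZeroP j).obj H).obj.obj (op C₀)) := by
  let K := (ProEtS.pullP i).obj ((ProEtS.extZeroP j).obj H)
  have hzero : 𝟙 K = 0 := by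
    apply ((ProEtS.pullPushAdjP i).homEquiv _ _).injective
    apply ((ProEtS.extZeroPAdj j).homEquiv _ _).injective
    refine Sheaf.hom_ext (NatTrans.ext (funext fun ⟨W⟩ => ?_))
    haveI : IsEmpty ((ProEtS.bcP i).obj ((ProEtS.compP j).obj W)).left := ⟨fun p => by
      have h1 := congrArg (fun m => m p) (pullback.condition (f := ((ProEtS.compP j).obj W).hom) (g := i))
      exact Set.disjoint_left.1 hUZ ⟨W.hom (pullback.fst ((ProEtS.compP j).obj W).hom i p), h1⟩ ⟨_, rfl⟩⟩
    haveI := subsingleton_sections_of_isEmpty K ((ProEtS.bcP i).obj ((ProEtS.compP j).obj W))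
    ext s
    exact Subsingleton.elim (α := K.obj.obj (op ((ProEtS.bcP i).obj ((ProEtS.compP j).obj W)))) _ _
  have : Subsingleton (K.obj.obj (op T₀)) := ⟨fun a b => by
    have ha : ∀ a : K.obj.obj (op T₀), a = 0 := fun a => congrArg (fun q => q.hom.app (op T₀) a) hzero
    rw [ha a, ha b]⟩
  exact ⟨fun a b => (bijective_unit_pair i h _).1 (Subsingleton.elim _ _)⟩

theorem subsingleton_extZero_of_specializes [WeaklyEtale j] [ProEtS.JPCont j] [ProEtS.PCont i]
    (hUZ : Disjoint (Set.range j) (Set.range i)) (V : X.ProEt) [IsAffine V.left]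
    (hV : ∀ v : V.left, ∃ z : V.left, V.hom z ∈ Set.range i ∧ v ⤳ z) (F : ProEtS.AbP U) :
    Subsingleton (ProEtS.sectP ((ProEtS.extZeroP j).obj F) V) := by
  let A := (ProEtS.extZeroP j).obj F
  have hA : Presieve.IsSheaf (Scheme.ProEt.topology X) (A.obj ⋙ forget AddCommGrpCat.{u + 1}) :=
    (isSheaf_iff_isSheaf_of_type _ _).1 ((sheafCompose _ (forget AddCommGrpCat.{u + 1})).obj A).property
  let R : Sieve V :=
    { arrows := fun W c => ∀ a b : A.obj.obj (op V), A.obj.map c.op a = A.obj.map c.op b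
      downward_closed := fun {W W'} c hc g a b => by
        rw [op_comp, A.obj.map_comp_apply, A.obj.map_comp_apply, hc a b] }
  refine ⟨fun a b => (hA R (mem_of_pairs i hV R fun C₀ T₀ toG c h a b => ?_)).isSeparatedFor.ext
    fun W c hc => hc a b⟩
  haveI := subsingleton_extZero_pair i j hUZ h F
  exact Subsingleton.elim _ _

variable [IsOpenImmersion j] [QuasiCompact j]

/-- coverings by objects over the open part and by pairs -/
theorem mem_of_open_of_pairs (hc : Set.range j = (Set.range i)ᶜ) {V : X.ProEt} (R : Sieve V)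
    (hU : ∀ (W : X.ProEt) (f : W ⟶ V), Set.range W.hom ⊆ Set.range j → R f)
    (hR : ∀ (C₀ : X.ProEt) (T₀ : Z.ProEt) (toG : T₀ ⟶ (ProEtS.bcP i).obj C₀) (c : C₀ ⟶ V),
      IsLiftPair toG → R c) : R ∈ Scheme.ProEt.topology X V := by
  refine mem_topology_of_pieces R fun x => ?_
  obtain ⟨O, hO, hxO, -⟩ := exists_isAffineOpen_mem_and_subset (X := V.left) (x := x) (U := ⊤) trivial
  haveI : IsAffine (piece V O).left := hO
  let VO := piece V O
  obtain ⟨n, C, c, hC, hcR, hcs⟩ : ∃ (n : ℕ) (C : Fin n → X.ProEt) (c : ∀ k, C k ⟶ VO),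
      (∀ k, IsAffine (C k).left) ∧ (∀ k, R (c k ≫ pieceHom V O)) ∧
        ∀ z : VO.left, VO.hom z ∈ Set.range i → ∃ k, z ∈ Set.range (c k).left := by
    let D := (ProEtS.bcP i).obj VO
    haveI : IsAffineHom (pullback.fst VO.hom i : D.left ⟶ VO.left) := bcP_fst_prop i @IsAffineHom inferInstance VO
    haveI : IsAffine ((𝟭 Scheme.{u}).obj VO.left) := hO
    haveI : IsAffine D.left := isAffine_of_isAffineHom (pullback.fst VO.hom i : D.left ⟶ VO.left)
    choose O' C₀ T₀ toG f hxO' hO' hpair hr hs using exists_liftPair i D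
    obtain ⟨s, hscov⟩ := isCompact_univ.elim_finite_subcover (fun x => (O' x : Set D.left)) (fun x => (O' x).2)
      (fun x _ => Set.mem_iUnion.2 ⟨x, hxO' x⟩)
    let x' := fun k : Fin s.card => (s.equivFin.symm k : D.left)
    choose c hc' using fun k => ((hpair (x' k)).univ VO (f (x' k))).exists
    refine ⟨s.card, fun k => C₀ (x' k), c, fun k => (hpair _).affineLift,
      fun k => hR _ _ _ _ (hpair (x' k)), fun z ⟨w, hw⟩ => ?_⟩
    obtain ⟨y, hy1, -⟩ := Scheme.exists_preimage_of_isPullback (IsPullback.of_hasPullback VO.hom i) z w hw.symm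
    obtain ⟨x, hxs, hyx⟩ := Set.mem_iUnion₂.1 (hscov (Set.mem_univ y))
    have hk : x' (s.equivFin ⟨x, hxs⟩) = x := by simp [x']
    obtain ⟨t, ht⟩ := hs (x' (s.equivFin ⟨x, hxs⟩)) y (hk.symm ▸ hyx)
    refine ⟨s.equivFin ⟨x, hxs⟩, (pullback.fst (C₀ _).hom i) ((toG _).left t), ?_⟩
    rw [← hy1, ← ht, ← hc']
    exact congrArg (fun m => m ((toG _).left t)) (ProEtCont.isPullback_bcP_map i (c _)).w
  let Q : VO.left.Opens := VO.hom ⁻¹ᵁ j.opensRange
  have hQ : IsCompact (Q : Set VO.left) := by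
    haveI : QuasiCompact (pullback.fst VO.hom j) := MorphismProperty.pullback_fst _ _ ‹_›
    haveI : CompactSpace ↥((𝟭 Scheme.{u}).obj VO.left) := (inferInstance : CompactSpace ↥(VO.left))
    haveI : CompactSpace ↥(pullback VO.hom j : Scheme.{u}) :=
      QuasiCompact.compactSpace_of_compactSpace (pullback.fst VO.hom j)
    have h := isCompact_range (pullback.fst VO.hom j).base.hom.continuous
    rw [Scheme.Pullback.range_fst] at h
    exact h
  choose P hP hPQ hPx using fun q : Q => exists_isAffineOpen_mem_and_subset (X := VO.left) (x := q.1) (U := Q) q.2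
  obtain ⟨s, hs⟩ := hQ.elim_finite_subcover (fun q : Q => (P q : Set VO.left)) (fun q => (P q).2)
    (fun q hq => Set.mem_iUnion.2 ⟨⟨q, hq⟩, hPQ _⟩)
  refine ⟨O, hxO, hO, ULift.{u} (Fin n) ⊕ s, inferInstance,
    Sum.elim (fun k => C k.down) (fun q => piece VO (P q.1)),
    fun k => match k with
      | .inl k => c k.down ≫ pieceHom V O
      | .inr q => pieceHom VO (P q.1) ≫ pieceHom V O, ?_, ?_, ?_, fun y hy => ?_⟩
  · rintro (k | q)
    exacts [hC _, hP q.1]
  · rintro (k | q)
    · exact hcR _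
    · refine hU _ _ ?_
      rintro _ ⟨w, rfl⟩
      exact hPx q.1 ((Scheme.Opens.range_ι (P q.1)).le ⟨w, rfl⟩)
  · rintro (k | q) <;> rintro _ ⟨w, rfl⟩ <;> exact (Scheme.Opens.range_ι O).le ⟨_, rfl⟩
  · obtain ⟨y', rfl⟩ := (Scheme.Opens.range_ι O).ge hy
    by_cases hy' : VO.hom y' ∈ Set.range i
    · obtain ⟨k, w, rfl⟩ := hcs y' hy'
      exact ⟨.inl ⟨k⟩, w, rfl⟩
    · obtain ⟨q, hqs, hyq⟩ := Set.mem_iUnion₂.1 (hs (show y' ∈ (Q : Set VO.left) from hc.ge hy'))
      obtain ⟨w, rfl⟩ := (Scheme.Opens.range_ι (P q)).ge hyq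
      exact ⟨.inr ⟨q, hqs⟩, w, rfl⟩

omit [IsClosedImmersion i] [QuasiCompact j] in
/-- sheaf maps bijective after restriction are bijective on objects over the open part -/
theorem bijective_of_isIso_restr [ProEtS.JPCont j] {A B : ProEtS.AbP X} (φ : A ⟶ B)
    [IsIso ((ProEtS.restrP j).map φ)] (W : X.ProEt) (hW : Set.range W.hom ⊆ Set.range j) :
    Function.Bijective (φ.hom.app (op W)) := by
  let l := IsOpenImmersion.lift j W.hom hW
  have hl : l ≫ j = W.hom := IsOpenImmersion.lift_fac _ _ _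
  haveI : WeaklyEtale l := by
    haveI : WeaklyEtale (l ≫ j) := by rw [hl]; infer_instance
    exact WeaklyEtale.of_comp l j
  let W' : U.ProEt := Scheme.ProEt.mk l
  let e : (ProEtS.compP j).obj W' ≅ W := MorphismProperty.Over.isoMk (Iso.refl _) (by
    show 𝟙 W.left ≫ W.hom = l ≫ j
    rw [hl, Category.id_comp])
  haveI h1 : IsIso (φ.hom.app (op ((ProEtS.compP j).obj W'))) :=
    inferInstanceAs (IsIso (((sheafToPresheaf _ _ ⋙ (evaluation _ _).obj (op W'))).map ((ProEtS.restrP j).map φ)))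
  haveI : IsIso (φ.hom.app (op W)) := by
    have hn := φ.hom.naturality e.inv.op
    rw [← IsIso.eq_inv_comp] at hn
    rw [hn]
    infer_instance
  exact ConcreteCategory.bijective_of_isIso _

theorem isIso_of_bijective_open_pairs [ProEtS.JPCont j] (hc : Set.range j = (Set.range i)ᶜ)
    {A B : ProEtS.AbP X} (φ : A ⟶ B) [IsIso ((ProEtS.restrP j).map φ)]
    (h : ∀ (C₀ : X.ProEt) (T₀ : Z.ProEt) (toG : T₀ ⟶ (ProEtS.bcP i).obj C₀), IsLiftPair toG →
      Function.Bijective (φ.hom.app (op C₀))) : IsIso φ := by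
  haveI : Sheaf.IsLocallyInjective φ := ⟨fun {D} a b hab => by
    refine mem_of_open_of_pairs i j hc _ (fun W f hW => ?_) fun C₀ T₀ toG f hp => ?_
    · apply (bijective_of_isIso_restr j φ W hW).1
      rw [NatTrans.naturality_apply, NatTrans.naturality_apply]
      exact congrArg (B.obj.map f.op) hab
    · apply (h C₀ T₀ toG hp).1
      rw [NatTrans.naturality_apply, NatTrans.naturality_apply]
      exact congrArg (B.obj.map f.op) hab⟩
  haveI : Sheaf.IsLocallySurjective φ := ⟨fun {D} s => mem_of_open_of_pairs i j hc _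
    (fun W f hW => (bijective_of_isIso_restr j φ W hW).2 (B.obj.map f.op s))
    fun C₀ T₀ toG f hp => (h C₀ T₀ toG hp).2 (B.obj.map f.op s)⟩
  exact (Sheaf.isLocallyBijective_iff_isIso φ).1 ⟨inferInstance, inferInstance⟩

omit i in
theorem preservesLimitsOfShape_extZeroP [ProEtS.JPCont j] (J : Type u) [SmallCategory J] :
    PreservesLimitsOfShape J (ProEtS.extZeroP j) := by
  let Zc : TopologicalSpace.Closeds X := ⟨(Set.range j)ᶜ, j.isOpenEmbedding.isOpen_range.isClosed_compl⟩
  let I : X.IdealSheafData := Scheme.IdealSheafData.vanishingIdeal Zc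
  let ι := I.subschemeι
  haveI : ProEtS.PCont ι := Groth.Agent.ProEtCont.pCont ι
  haveI : ProEtS.PCont j := Groth.Agent.ProEtCont.pCont j
  have hr : Set.range ι = (Set.range j)ᶜ := by
    rw [Scheme.IdealSheafData.range_subschemeι, Scheme.IdealSheafData.coe_support_vanishingIdeal]
    rfl
  have hc : Set.range j = (Set.range ι)ᶜ := by rw [hr, compl_compl]
  have hUZ : Disjoint (Set.range j) (Set.range ι) := hr ▸ disjoint_compl_right
  refine ⟨fun {K} => ?_⟩
  let L := ProEtS.extZeroP j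
  haveI : IsIso (ProEtS.extZeroPAdj j).unit :=
    haveI : ∀ F, IsIso ((ProEtS.extZeroPAdj j).unit.app F) := fun F => (isIso_unit_counit_open j F F).1
    NatIso.isIso_of_isIso_app _
  haveI : PreservesLimitsOfShape J (L ⋙ ProEtS.restrP j) :=
    preservesLimitsOfShape_of_natIso (asIso (ProEtS.extZeroPAdj j).unit)
  haveI : PreservesLimitsOfShape J (ProEtS.restrP j) := inferInstance
  haveI : IsIso ((ProEtS.restrP j).map (limit.post K L)) := by
    have h1 := limit.post_post K L (ProEtS.restrP j)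
    haveI : IsIso ((ProEtS.restrP j).map (limit.post K L) ≫ limit.post (K ⋙ L) (ProEtS.restrP j)) := by
      rw [h1]; infer_instance
    exact IsIso.of_isIso_comp_right _ (limit.post (K ⋙ L) (ProEtS.restrP j))
  haveI : IsIso (limit.post K L) := isIso_of_bijective_open_pairs ι j hc _ fun C₀ T₀ toG h => by
    have h0 := subsingleton_extZero_pair ι j hUZ h (limit K)
    let evC : ProEtS.AbP X ⥤ AddCommGrpCat.{u + 1} := sheafToPresheaf _ _ ⋙ (evaluation _ _).obj (op C₀)
    haveI : PreservesLimitsOfShape J evC := inferInstance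
    refine ⟨fun a b _ => Subsingleton.elim (h := h0) a b, fun b => ⟨0, ?_⟩⟩
    refine (Concrete.limit_ext ((K ⋙ L) ⋙ evC) ((preservesLimitIso evC (K ⋙ L)).hom _)
      ((preservesLimitIso evC (K ⋙ L)).hom b) (fun k => ?_)) |> fun h =>
        (ConcreteCategory.bijective_of_isIso (preservesLimitIso evC (K ⋙ L)).hom).1 h
    haveI := subsingleton_extZero_pair ι j hUZ h (K.obj k)
    exact Subsingleton.elim (α := (((ProEtS.extZeroP j).obj (K.obj k))).obj.obj (op C₀)) _ _
  exact preservesLimit_of_isIso_post L K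

theorem exists_shortExact [ProEtS.JPCont j] [ProEtS.PCont i] (hc : Set.range j = (Set.range i)ᶜ)
    (F : ProEtS.AbP X) :
    ∃ h : (ProEtS.extZeroPAdj j).counit.app F ≫ (ProEtS.pullPushAdjP i).unit.app F = 0,
      (ShortComplex.mk _ _ h).ShortExact := by
  haveI : ProEtS.PCont j := Groth.Agent.ProEtCont.pCont j
  have hUZ : Disjoint (Set.range j) (Set.range i) := hc ▸ disjoint_compl_left
  let ε := (ProEtS.extZeroPAdj j).counit.app F
  let η := (ProEtS.pullPushAdjP i).unit.app F
  let A := (ProEtS.extZeroP j).obj ((ProEtS.restrP j).obj F)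
  let K := (ProEtS.pullP i).obj F
  let B := (ProEtS.pushP i).obj K
  have hB : ∀ W : X.ProEt, Set.range W.hom ⊆ Set.range j → Subsingleton (B.obj.obj (op W)) := fun W hW => by
    haveI : IsEmpty ((ProEtS.bcP i).obj W).left := ⟨fun p => by
      have h1 := congrArg (fun m => m p) (pullback.condition (f := W.hom) (g := i))
      exact Set.disjoint_left.1 hUZ (hW ⟨pullback.fst W.hom i p, h1⟩) ⟨_, rfl⟩⟩
    exact subsingleton_sections_of_isEmpty K ((ProEtS.bcP i).obj W)
  haveI : IsIso ((ProEtS.restrP j).map ε) := by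
    haveI := (isIso_unit_counit_open j ((ProEtS.restrP j).obj F) ((ProEtS.restrP j).obj F)).1
    exact IsIso.of_isIso_fac_left ((ProEtS.extZeroPAdj j).right_triangle_components F)
  have hε := bijective_of_isIso_restr j ε
  have h0 : ε ≫ η = 0 := by
    apply ((ProEtS.extZeroPAdj j).homEquiv _ _).injective
    refine Sheaf.hom_ext (NatTrans.ext (funext fun ⟨W⟩ => ?_))
    haveI := hB ((ProEtS.compP j).obj W) (by rintro _ ⟨w, rfl⟩; exact ⟨W.hom w, rfl⟩)
    ext s
    exact Subsingleton.elim (α := B.obj.obj (op ((ProEtS.compP j).obj W))) _ _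
  refine ⟨h0, ?_⟩
  have hηC : ∀ {C₀ : X.ProEt} {T₀ : Z.ProEt} {toG : T₀ ⟶ (ProEtS.bcP i).obj C₀}, IsLiftPair toG →
      Function.Bijective (η.hom.app (op C₀)) := fun {C₀ T₀ toG} h => by
    haveI := h.isIso
    exact (Function.Bijective.of_comp_iff' (ConcreteCategory.bijective_of_isIso (K.obj.map toG.op)) _).1
      (bijective_unit_pair i h F)
  haveI hlε : Sheaf.IsLocallyInjective ε := ⟨fun {D} a b hab => by
    refine mem_of_open_of_pairs i j hc _ (fun W f hW => ?_) fun C₀ T₀ toG f hp => ?_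
    · apply (hε W hW).1
      rw [NatTrans.naturality_apply, NatTrans.naturality_apply]
      exact congrArg (F.obj.map f.op) hab
    · haveI := subsingleton_extZero_pair i j hUZ hp ((ProEtS.restrP j).obj F)
      exact Subsingleton.elim (α := A.obj.obj (op C₀)) _ _⟩
  haveI : Mono ε := Sheaf.mono_of_isLocallyInjective ε
  haveI : Sheaf.IsLocallySurjective η := ⟨fun {D} t => mem_of_open_of_pairs i j hc _
    (fun W f hW => ⟨0, (hB W hW).elim _ _⟩) fun C₀ T₀ toG f hp => (hηC hp).2 (B.obj.map f.op t)⟩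
  haveI : Epi η := (Sheaf.isLocallySurjective_iff_epi' AddCommGrpCat.{u + 1} η).1 ‹_›
  refine ShortComplex.ShortExact.mk ?_
  rw [ShortComplex.exact_iff_epi_kernel_lift]
  let l := kernel.lift η ε h0
  haveI hm : ∀ W : X.ProEt, Mono ((kernel.ι η).hom.app (op W)) := fun W =>
    inferInstanceAs (Mono ((sheafToPresheaf _ _ ⋙ (evaluation _ _).obj (op W)).map (kernel.ι η)))
  haveI : Sheaf.IsLocallySurjective l := ⟨fun {D} k => by
    have hι : ∀ (W : X.ProEt) (a : A.obj.obj (op W)), (kernel.ι η).hom.app (op W) (l.hom.app (op W) a) = ε.hom.app (op W) a :=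
      fun W a => congrArg (fun q => q.hom.app (op W) a) (kernel.lift_ι η ε h0)
    refine mem_of_open_of_pairs i j hc _ (fun W f hW => ?_) fun C₀ T₀ toG f hp => ?_
    · obtain ⟨a, ha⟩ := (hε W hW).2 ((kernel.ι η).hom.app (op W) ((kernel η).obj.map f.op k))
      exact ⟨a, (AddCommGrpCat.mono_iff_injective _).1 (hm W) ((hι W a).trans ha)⟩
    · refine ⟨0, (AddCommGrpCat.mono_iff_injective _).1 (hm C₀) ?_⟩
      rw [map_zero, map_zero]
      apply (hηC hp).1
      rw [map_zero]
      exact (congrArg (fun q => q.hom.app (op C₀) ((kernel η).obj.map f.op k)) (kernel.condition η)).symm⟩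
  exact (Sheaf.isLocallySurjective_iff_epi' AddCommGrpCat.{u + 1} l).1 ‹_›

end Groth.Agent.ProEtInv
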