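import Groth.Agent.WeakEt.Basic
import Mathlib.RingTheory.Etale.Weakly
import Mathlib.RingTheory.Flat.FaithfullyFlat.Basic
import Mathlib.RingTheory.Flat.FaithfullyFlat.Algebra
import Mathlib.RingTheory.Ideal.Pure
import Mathlib.RingTheory.Spectrum.Prime.Topology
import Mathlib.RingTheory.IntegralClosure.IntegralRestrict
import Mathlib

/-!
# Weakly étale algebras over universal homeomorphisms: homomorphisms
-/

set_option autoImplicit false
set_option linter.style.haveILetI false

universe u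

open TensorProduct PrimeSpectrum

namespace Groth.Agent.ProEtInv

/-- `U` is an integral radicial surjective `T`-algebra. -/
structure UH (T U : Type u) [CommRing T] [CommRing U] [Algebra T U] : Prop where
  integral : Algebra.IsIntegral T U
  bij : ∀ (S : Type u) [CommRing S] [Algebra T S], Function.Bijective
    (PrimeSpectrum.comap (Algebra.TensorProduct.includeRight : S →ₐ[T] U ⊗[T] S).toRingHom)

variable {T : Type u} [CommRing T]

/-- pure ideals cut out sets stable under generalisation -/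
theorem mem_zeroLocus_of_le {I : Ideal T} [I.Pure] {q p : PrimeSpectrum T} (hqp : q.asIdeal ≤ p.asIdeal)
    (hp : p ∈ zeroLocus (I : Set T)) : q ∈ zeroLocus (I : Set T) := by
  intro x hx
  obtain ⟨y, hy, hxy⟩ := Ideal.exists_eq_mul_of_pure hx
  have h0 : x * (1 - y) = 0 := by rw [mul_sub, mul_one, ← hxy, sub_self]
  refine (q.2.mem_or_mem (h0 ▸ q.asIdeal.zero_mem)).resolve_right fun h => p.2.ne_top ?_
  rw [Ideal.eq_top_iff_one]
  simpa using p.asIdeal.add_mem (hqp h) (hp hy)

/-- closed sets stable under generalisation are cut out by pure ideals -/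
theorem exists_pure {Γ : Set (PrimeSpectrum T)} (hc : IsClosed Γ)
    (hg : ∀ q p : PrimeSpectrum T, q.asIdeal ≤ p.asIdeal → p ∈ Γ → q ∈ Γ) :
    ∃ J : Ideal T, J.Pure ∧ zeroLocus (J : Set T) = Γ := by
  classical
  let J : Ideal T :=
    { carrier := {x | ∀ p ∈ Γ, ∃ a : T, a ∉ p.asIdeal ∧ a * x = 0}
      zero_mem' := fun p _ => ⟨1, fun h => p.2.ne_top ((Ideal.eq_top_iff_one _).2 h), mul_zero _⟩
      add_mem' := fun {x y} hx hy p hp => by
        obtain ⟨a, ha, hax⟩ := hx p hp
        obtain ⟨b, hb, hby⟩ := hy p hp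
        exact ⟨a * b, fun h => (p.2.mem_or_mem h).elim ha hb, by linear_combination b * hax + a * hby⟩
      smul_mem' := fun c x hx p hp => by
        obtain ⟨a, ha, hax⟩ := hx p hp
        exact ⟨a, ha, by rw [smul_eq_mul]; linear_combination c * hax⟩ }
  have hout : ∀ q ∉ Γ, ∃ j ∈ J, j ∉ q.asIdeal := by
    intro q hq
    have key : ∀ p ∈ Γ, ∃ a b : T, a ∉ p.asIdeal ∧ b ∉ q.asIdeal ∧ a * b = 0 := by
      intro p hp
      by_contra hne
      push_neg at hne
      let M : Submonoid T := p.asIdeal.primeCompl ⊔ q.asIdeal.primeCompl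
      have hd : Disjoint ((⊥ : Ideal T) : Set T) (M : Set T) := by
        rw [Set.disjoint_left]
        rintro _ (rfl : _ = (0 : T)) h
        obtain ⟨a, ha, b, hb, e⟩ := Submonoid.mem_sup.1 h
        exact hne a b ha hb e
      obtain ⟨r, hr, -, hrd⟩ := Ideal.exists_le_prime_disjoint ⊥ M hd
      have h1 : r ≤ p.asIdeal := fun x hx => by
        by_contra h
        exact Set.disjoint_left.1 hrd hx (Submonoid.mem_sup_left h)
      have h2 : r ≤ q.asIdeal := fun x hx => by
        by_contra h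
        exact Set.disjoint_left.1 hrd hx (Submonoid.mem_sup_right h)
      have hrΓ : (⟨r, hr⟩ : PrimeSpectrum T) ∈ Γ := hg _ p h1 hp
      have hs : (⟨r, hr⟩ : PrimeSpectrum T) ⤳ q := (PrimeSpectrum.le_iff_specializes _ _).1 h2
      exact hq (hs.mem_closed hc hrΓ)
    choose a b ha hb hab using key
    obtain ⟨s, hs⟩ := hc.isCompact.elim_finite_subcover
      (fun p : Γ => (PrimeSpectrum.basicOpen (a p.1 p.2) : Set (PrimeSpectrum T)))
      (fun p => PrimeSpectrum.isOpen_basicOpen) (fun p hp => Set.mem_iUnion.2 ⟨⟨p, hp⟩, ha p hp⟩)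
    refine ⟨∏ p ∈ s, b p.1 p.2, fun x hx => ?_, fun h => ?_⟩
    · obtain ⟨p, hps, hxp⟩ := Set.mem_iUnion₂.1 (hs hx)
      refine ⟨a p.1 p.2, hxp, ?_⟩
      rw [← Finset.mul_prod_erase s _ hps, ← mul_assoc, hab, zero_mul]
    · obtain ⟨p, -, hp⟩ := (Ideal.IsPrime.prod_mem_iff (hp := q.2)).1 h
      exact hb p.1 p.2 hp
  have hV : zeroLocus (J : Set T) = Γ := by
    ext q
    refine ⟨fun h => ?_, fun h x hx => ?_⟩
    · by_contra hq
      obtain ⟨j, hj, hjq⟩ := hout q hq
      exact hjq (h hj)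
    · obtain ⟨a, ha, hax⟩ := hx q h
      exact (q.2.mem_or_mem (hax ▸ q.asIdeal.zero_mem)).resolve_left ha
  refine ⟨J, WeakEt.pure_of_generators (s := (J : Set T)) J.span_eq fun x hx => ?_, hV⟩
  let Ann : Ideal T := LinearMap.ker (LinearMap.toSpanSingleton T T x)
  have htop : J ⊔ Ann = ⊤ := by
    by_contra hne
    obtain ⟨m, hm, hle⟩ := Ideal.exists_le_maximal _ hne
    let q : PrimeSpectrum T := ⟨m, hm.isPrime⟩
    have hq : q ∈ Γ := hV.le fun j hj => hle (Ideal.mem_sup_left hj)
    obtain ⟨a, ha, hax⟩ := hx q hq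
    exact ha (hle (Ideal.mem_sup_right (show a • x = 0 from hax)))
  obtain ⟨y, hy, z, hz, hyz⟩ := Submodule.mem_sup.1 ((Ideal.eq_top_iff_one _).1 htop)
  have hz' : z * x = 0 := hz
  exact ⟨y, hy, by linear_combination x * hyz - hz'⟩

variable {U : Type u} [CommRing U] [Algebra T U]

theorem UH.surjective_comap (h : UH T U) (S : Type u) [CommRing S] [Algebra T S] :
    Function.Surjective (PrimeSpectrum.comap
      (Algebra.TensorProduct.includeRight : S →ₐ[T] U ⊗[T] S).toRingHom) :=
  (h.bij S).surjective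

theorem UH.surjective_comap_self (h : UH T U) : Function.Surjective (PrimeSpectrum.comap (algebraMap T U)) := fun p => by
  obtain ⟨P, hP⟩ := h.surjective_comap T p
  refine ⟨PrimeSpectrum.comap (Algebra.TensorProduct.rid T T U).symm.toAlgHom.toRingHom P, ?_⟩
  rw [← hP, ← PrimeSpectrum.comap_comp_apply]
  congr 1
  refine RingHom.ext fun t => ?_
  simp [Algebra.algebraMap_eq_smul_one, TensorProduct.smul_tmul]
  rw [TensorProduct.smul_tmul', TensorProduct.smul_tmul, smul_eq_mul, mul_one]

theorem UH.isClosedMap (h : UH T U) (S : Type u) [CommRing S] [Algebra T S] :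
    IsClosedMap (PrimeSpectrum.comap
      (Algebra.TensorProduct.includeRight : S →ₐ[T] U ⊗[T] S).toRingHom) := by
  haveI := h.integral
  refine PrimeSpectrum.isClosedMap_comap_of_isIntegral _ ?_
  have h1 : (algebraMap S (S ⊗[T] U)).IsIntegral := algebraMap_isIntegral_iff.2 inferInstance
  have e : (Algebra.TensorProduct.includeRight : S →ₐ[T] U ⊗[T] S).toRingHom =
      (Algebra.TensorProduct.comm T S U).toRingEquiv.toRingHom.comp (algebraMap S (S ⊗[T] U)) :=
    RingHom.ext fun s => by simp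
  rw [e]
  exact RingHom.IsIntegral.trans _ _ h1 (RingHom.isIntegral_of_surjective _
    (Algebra.TensorProduct.comm T S U).surjective)

/-- maps out of a weakly étale algebra are determined after a surjective base change -/
theorem algHom_ext (h : UH T U) {W S : Type u} [CommRing W] [Algebra T W] [Algebra.WeaklyEtale T W]
    [CommRing S] [Algebra T S] (f g : W →ₐ[T] S)
    (hfg : (Algebra.TensorProduct.includeRight : S →ₐ[T] U ⊗[T] S).comp f =
      (Algebra.TensorProduct.includeRight : S →ₐ[T] U ⊗[T] S).comp g) : f = g := by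
  haveI : Algebra.WeaklyEtale S (S ⊗[T] W) := inferInstance
  have key : ∀ k : W →ₐ[T] S, (RingHom.ker (Algebra.TensorProduct.lift (Algebra.ofId S S) k
      fun x y => Commute.all _ _).toRingHom).Pure := by
    intro k
    let σ : S ⊗[T] W →ₐ[S] S := Algebra.TensorProduct.lift (Algebra.ofId S S) k fun x y => Commute.all _ _
    letI : Algebra (S ⊗[T] W) S := σ.toRingHom.toAlgebra
    haveI : IsScalarTower S (S ⊗[T] W) S := IsScalarTower.of_algebraMap_eq fun a => (σ.commutes a).symm
    haveI := WeakEt.weaklyEtale_of_comp S (S ⊗[T] W) S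
    have hflat : Module.Flat (S ⊗[T] W) S := inferInstance
    exact (WeakEt.flat_iff_kernel_pure (f := σ.toRingHom) fun s => ⟨s ⊗ₜ 1, by simp [σ]⟩).1 hflat
  let σf : S ⊗[T] W →ₐ[S] S := Algebra.TensorProduct.lift (Algebra.ofId S S) f fun x y => Commute.all _ _
  let σg : S ⊗[T] W →ₐ[S] S := Algebra.TensorProduct.lift (Algebra.ofId S S) g fun x y => Commute.all _ _
  haveI : (RingHom.ker σf.toRingHom).Pure := key f
  haveI : (RingHom.ker σg.toRingHom).Pure := key g
  let q : S →ₐ[T] U ⊗[T] S := Algebra.TensorProduct.includeRight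
  have hq : ∀ x, q (σf x) = q (σg x) := fun x => by
    induction x using TensorProduct.induction_on with
    | zero => simp
    | tmul s w =>
      simp only [σf, σg, Algebra.TensorProduct.lift_tmul, map_mul]
      exact congrArg (q _ * ·) congr($hfg w)
    | add a b ha hb => simp only [map_add, ha, hb]
  have hpt : ∀ p : PrimeSpectrum S, PrimeSpectrum.comap σf.toRingHom p = PrimeSpectrum.comap σg.toRingHom p := by
    intro p
    obtain ⟨P, rfl⟩ := h.surjective_comap S p
    rw [← PrimeSpectrum.comap_comp_apply, ← PrimeSpectrum.comap_comp_apply]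
    congr 1
    exact RingHom.ext hq
  have hsf : Function.Surjective σf.toRingHom := fun s => ⟨s ⊗ₜ 1, by simp [σf]⟩
  have hsg : Function.Surjective σg.toRingHom := fun s => ⟨s ⊗ₜ 1, by simp [σg]⟩
  have hker : RingHom.ker σf.toRingHom = RingHom.ker σg.toRingHom := by
    rw [← Ideal.zeroLocus_inj_of_pure, ← range_comap_of_surjective _ _ hsf, ← range_comap_of_surjective _ _ hsg]
    exact congrArg Set.range (funext hpt)
  refine AlgHom.ext fun w => ?_
  have hmem : (1 : S) ⊗ₜ[T] w - f w ⊗ₜ[T] (1 : W) ∈ RingHom.ker σf.toRingHom := by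
    rw [RingHom.mem_ker]
    simp [σf]
  rw [hker, RingHom.mem_ker] at hmem
  simp [σg, sub_eq_zero] at hmem
  linear_combination -hmem

theorem bijective_of_includeLeft_eq (C : Type u) [CommRing C] [Algebra T C] [Module.FaithfullyFlat T C]
    (he : (Algebra.TensorProduct.includeLeft : C →ₐ[T] C ⊗[T] C) = Algebra.TensorProduct.includeRight) :
    Function.Bijective (algebraMap T C) := by
  refine ⟨FaithfulSMul.algebraMap_injective T C, ?_⟩
  have hs : Function.Surjective ((Algebra.linearMap T C).lTensor C) := fun z => by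
    induction z using TensorProduct.induction_on with
    | zero => exact ⟨0, map_zero _⟩
    | tmul c d =>
      refine ⟨(c * d) ⊗ₜ 1, ?_⟩
      have h1 : d ⊗ₜ[T] (1 : C) = (1 : C) ⊗ₜ[T] d := congr($he d)
      calc (Algebra.linearMap T C).lTensor C ((c * d) ⊗ₜ[T] 1) = (c * d) ⊗ₜ[T] (1 : C) := by simp
        _ = (c ⊗ₜ[T] (1 : C)) * (d ⊗ₜ[T] (1 : C)) := by simp
        _ = (c ⊗ₜ[T] (1 : C)) * ((1 : C) ⊗ₜ[T] d) := by rw [h1]
        _ = c ⊗ₜ[T] d := by simp
    | add a b ha hb =>
      obtain ⟨x, rfl⟩ := ha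
      obtain ⟨y, rfl⟩ := hb
      exact ⟨x + y, map_add _ _ _⟩
  exact (Module.FaithfullyFlat.lTensor_surjective_iff_surjective T C (Algebra.linearMap T C)).1 hs

/-- maps out of a weakly étale algebra lift along a universal homeomorphism -/
theorem exists_algHom (h : UH T U) {W : Type u} [CommRing W] [Algebra T W] [Algebra.WeaklyEtale T W]
    (φ : W →ₐ[T] U) : ∃ f : W →ₐ[T] T, (Algebra.ofId T U).comp f = φ := by
  let U' := U ⊗[T] W
  let τ : U' →ₐ[U] U := Algebra.TensorProduct.lift (Algebra.ofId U U) φ fun x y => Commute.all _ _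
  have hτs : Function.Surjective τ.toRingHom := fun s => ⟨s ⊗ₜ 1, by simp [τ, U']⟩
  haveI hKp : (RingHom.ker τ.toRingHom).Pure := by
    letI : Algebra U' U := τ.toRingHom.toAlgebra
    haveI : IsScalarTower U U' U := IsScalarTower.of_algebraMap_eq fun a => (τ.commutes a).symm
    haveI := WeakEt.weaklyEtale_of_comp U U' U
    have hflat : Module.Flat U' U := inferInstance
    exact (WeakEt.flat_iff_kernel_pure hτs).1 hflat
  let inc : W →ₐ[T] U' := Algebra.TensorProduct.includeRight
  let π := PrimeSpectrum.comap inc.toRingHom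
  have hcl : IsClosedMap π := h.isClosedMap W
  let Γ := π '' zeroLocus (RingHom.ker τ.toRingHom : Set U')
  have hΓg : ∀ q p : PrimeSpectrum W, q.asIdeal ≤ p.asIdeal → p ∈ Γ → q ∈ Γ := by
    rintro q _ hqp ⟨P, hP, rfl⟩
    obtain ⟨Q, rfl⟩ := (h.bij W).surjective q
    refine ⟨Q, mem_zeroLocus_of_le ?_ hP, rfl⟩
    rw [show Q.asIdeal ≤ P.asIdeal ↔ Q ⤳ P from PrimeSpectrum.le_iff_specializes Q P, specializes_iff_mem_closure]
    obtain ⟨P', hP', hPP'⟩ := (hcl.closure_image_subset {Q}) (by
      rw [Set.image_singleton]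
      exact ((PrimeSpectrum.le_iff_specializes _ _).1 hqp).mem_closure)
    rwa [← (h.bij W).injective hPP']
  obtain ⟨J, hJ, hJΓ⟩ := exists_pure (hcl _ (isClosed_zeroLocus _)) hΓg
  haveI hJp : (J.map inc.toRingHom).Pure := by
    refine WeakEt.pure_of_generators (s := inc.toRingHom '' J) rfl ?_
    rintro _ ⟨x, hx, rfl⟩
    obtain ⟨y, hy, hxy⟩ := Ideal.exists_eq_mul_of_pure (I := J) hx
    exact ⟨inc y, Ideal.mem_map_of_mem _ hy, by
      show inc x * inc y = inc x
      rw [← map_mul, ← hxy]⟩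
  have hK : J.map inc.toRingHom = RingHom.ker τ.toRingHom := by
    rw [← Ideal.zeroLocus_inj_of_pure, Ideal.map, zeroLocus_span, ← preimage_comap_zeroLocus, hJΓ]
    exact Set.preimage_image_eq _ (h.bij W).injective
  let C := W ⧸ J
  haveI : Module.Flat W C := hJ
  haveI : Module.Flat T C := Module.Flat.trans T W C
  haveI : Module.FaithfullyFlat T C := Module.FaithfullyFlat.of_comap_surjective fun p => by
    obtain ⟨P, hP⟩ := h.surjective_comap_self p
    have hmem : π (PrimeSpectrum.comap τ.toRingHom P) ∈ zeroLocus (J : Set W) :=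
      hJΓ.ge ⟨_, fun x (hx : τ x = 0) => show τ x ∈ P.asIdeal by rw [hx]; exact P.asIdeal.zero_mem, rfl⟩
    rw [← Ideal.mk_ker (I := J), ← range_comap_of_surjective _ _ Ideal.Quotient.mk_surjective] at hmem
    obtain ⟨Q, hQ⟩ := hmem
    refine ⟨Q, ?_⟩
    rw [show algebraMap T C = (Ideal.Quotient.mk J).comp (algebraMap T W) from rfl, PrimeSpectrum.comap_comp_apply,
      hQ, ← hP, ← PrimeSpectrum.comap_comp_apply, ← PrimeSpectrum.comap_comp_apply]
    congr 1
    exact RingHom.ext fun t => by simp [inc, τ, U']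
  let mkC : W →ₐ[T] C := Ideal.Quotient.mkₐ T J
  have key : ∀ w, (1 : U) ⊗ₜ[T] mkC w = φ w ⊗ₜ[T] (1 : C) := by
    intro w
    have hmem : inc w - φ w ⊗ₜ[T] (1 : W) ∈ RingHom.ker τ.toRingHom := by
      rw [RingHom.mem_ker]
      simp [inc, τ, U']
    rw [← hK] at hmem
    have hle : J.map inc.toRingHom ≤ RingHom.ker (Algebra.TensorProduct.map (AlgHom.id T U) mkC).toRingHom := by
      rw [Ideal.map_le_iff_le_comap]
      intro x hx
      show (Algebra.TensorProduct.map (AlgHom.id T U) mkC) ((1 : U) ⊗ₜ[T] x) = 0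
      rw [Algebra.TensorProduct.map_tmul, show mkC x = 0 from Ideal.Quotient.eq_zero_iff_mem.2 hx, tmul_zero]
    have h0 := hle hmem
    rw [RingHom.mem_ker] at h0
    simpa [inc, U', sub_eq_zero] using h0
  have he : (Algebra.TensorProduct.includeLeft : C →ₐ[T] C ⊗[T] C) = Algebra.TensorProduct.includeRight := by
    refine Ideal.Quotient.algHom_ext T (algHom_ext h _ _ (AlgHom.ext fun w => ?_))
    let L : U ⊗[T] C →ₐ[T] U ⊗[T] (C ⊗[T] C) :=
      Algebra.TensorProduct.map (AlgHom.id T U) Algebra.TensorProduct.includeLeft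
    let R : U ⊗[T] C →ₐ[T] U ⊗[T] (C ⊗[T] C) :=
      Algebra.TensorProduct.map (AlgHom.id T U) Algebra.TensorProduct.includeRight
    calc (1 : U) ⊗ₜ[T] (mkC w ⊗ₜ[T] (1 : C)) = L ((1 : U) ⊗ₜ[T] mkC w) := by simp [L]
      _ = R ((1 : U) ⊗ₜ[T] mkC w) := by rw [key]; simp [L, R, Algebra.TensorProduct.one_def]
      _ = (1 : U) ⊗ₜ[T] ((1 : C) ⊗ₜ[T] mkC w) := by simp [R]
  let e : T ≃ₐ[T] C := AlgEquiv.ofBijective (Algebra.ofId T C) (bijective_of_includeLeft_eq C he)
  refine ⟨e.symm.toAlgHom.comp mkC, AlgHom.ext fun w => ?_⟩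
  let ret : U ⊗[T] C →ₐ[T] U :=
    Algebra.TensorProduct.productMap (AlgHom.id T U) ((Algebra.ofId T U).comp e.symm.toAlgHom)
  have h1 := congrArg ret (key w)
  simpa [ret] using h1

end Groth.Agent.ProEtInv
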