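import Groth.Agent.ProEtInv.Descend
import Groth.Agent.WContr.ProEtSite
import Groth.Agent.WeakEt.Scheme
import Mathlib

/-!
# Sections of weakly étale morphisms over universal homeomorphisms
-/

set_option autoImplicit false
set_option linter.style.haveILetI false
set_option backward.isDefEq.respectTransparency false

universe u

open CategoryTheory CategoryTheory.Limits AlgebraicGeometry

namespace Groth.Agent.ProEtInv

variable {U₀ U V : Scheme.{u}}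

theorem uh_appTop (i : U₀ ⟶ U) [IsIntegralHom i] [UniversallyInjective i] [Surjective i] [IsAffine U] :
    IsAffine U₀ ∧ (letI := i.appTop.hom.toAlgebra; UH Γ(U, ⊤) Γ(U₀, ⊤)) := by
  haveI : IsAffine U₀ := isAffine_of_isAffineHom i
  refine ⟨inferInstance, ?_⟩
  letI := i.appTop.hom.toAlgebra
  have hi : Spec.map (CommRingCat.ofHom (algebraMap Γ(U, ⊤) Γ(U₀, ⊤))) = U₀.isoSpec.inv ≫ i ≫ U.isoSpec.hom := by
    show Spec.map i.appTop = _
    rw [← Scheme.isoSpec_hom_naturality, Iso.inv_hom_id_assoc]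
  haveI : IsIntegralHom (Spec.map (CommRingCat.ofHom (algebraMap Γ(U, ⊤) Γ(U₀, ⊤)))) := by
    rw [hi]; infer_instance
  haveI : UniversallyInjective (Spec.map (CommRingCat.ofHom (algebraMap Γ(U, ⊤) Γ(U₀, ⊤)))) := by
    rw [hi, MorphismProperty.cancel_left_of_respectsIso (P := @UniversallyInjective),
      MorphismProperty.cancel_right_of_respectsIso (P := @UniversallyInjective)]
    assumption
  haveI : Surjective (Spec.map (CommRingCat.ofHom (algebraMap Γ(U, ⊤) Γ(U₀, ⊤)))) := by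
    rw [hi]; infer_instance
  haveI : Algebra.IsIntegral Γ(U, ⊤) Γ(U₀, ⊤) := ⟨IsIntegralHom.SpecMap_iff.1 ‹_›⟩
  exact uh_of_specMap

theorem affine_unique (i : U₀ ⟶ U) [IsIntegralHom i] [UniversallyInjective i] [Surjective i]
    [IsAffine U] [IsAffine V] (v : V ⟶ U) [WeaklyEtale v] (s₁ s₂ : U ⟶ V) (h₁ : s₁ ≫ v = 𝟙 U)
    (h₂ : s₂ ≫ v = 𝟙 U) (h : i ≫ s₁ = i ≫ s₂) : s₁ = s₂ := by
  obtain ⟨_, hUH⟩ := uh_appTop i
  letI := i.appTop.hom.toAlgebra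
  letI := v.appTop.hom.toAlgebra
  haveI : Algebra.WeaklyEtale Γ(U, ⊤) Γ(V, ⊤) := WContr.weaklyEtale_appTop v
  let f : ∀ s : U ⟶ V, s ≫ v = 𝟙 U → Γ(V, ⊤) →ₐ[Γ(U, ⊤)] Γ(U, ⊤) := fun s hs =>
    { s.appTop.hom with
      commutes' := fun r => by
        show (v.appTop ≫ s.appTop) r = r
        rw [← Scheme.Hom.comp_appTop, hs]
        rfl }
  have hf : f s₁ h₁ = f s₂ h₂ := by
    refine algHom_ext hUH _ _ (AlgHom.ext fun w => ?_)
    show (1 : Γ(U₀, ⊤)) ⊗ₜ[Γ(U, ⊤)] (s₁.appTop w) = (1 : Γ(U₀, ⊤)) ⊗ₜ[Γ(U, ⊤)] (s₂.appTop w)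
    have key : ∀ r : Γ(U, ⊤), (1 : Γ(U₀, ⊤)) ⊗ₜ[Γ(U, ⊤)] r = (i.appTop r) ⊗ₜ[Γ(U, ⊤)] (1 : Γ(U, ⊤)) := fun r => by
      rw [show i.appTop r = r • (1 : Γ(U₀, ⊤)) from Algebra.algebraMap_eq_smul_one r, TensorProduct.smul_tmul]
      simp
    rw [key, key, ← ConcreteCategory.comp_apply, ← ConcreteCategory.comp_apply, ← Scheme.Hom.comp_appTop,
      ← Scheme.Hom.comp_appTop, h]
  exact ext_of_isAffine (CommRingCat.hom_ext (congrArg AlgHom.toRingHom hf))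

theorem affine_exists (i : U₀ ⟶ U) [IsIntegralHom i] [UniversallyInjective i] [Surjective i]
    [IsAffine U] [IsAffine V] (v : V ⟶ U) [WeaklyEtale v] (φ : U₀ ⟶ V) (hφ : φ ≫ v = i) :
    ∃ s : U ⟶ V, s ≫ v = 𝟙 U ∧ i ≫ s = φ := by
  obtain ⟨_, hUH⟩ := uh_appTop i
  letI := i.appTop.hom.toAlgebra
  letI := v.appTop.hom.toAlgebra
  haveI : Algebra.WeaklyEtale Γ(U, ⊤) Γ(V, ⊤) := WContr.weaklyEtale_appTop v
  let g : Γ(V, ⊤) →ₐ[Γ(U, ⊤)] Γ(U₀, ⊤) :=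
    { φ.appTop.hom with
      commutes' := fun r => by
        show (v.appTop ≫ φ.appTop) r = i.appTop r
        rw [← Scheme.Hom.comp_appTop, hφ] }
  obtain ⟨f, hf⟩ := exists_algHom hUH g
  have e1 : v.appTop ≫ CommRingCat.ofHom f.toRingHom = 𝟙 _ := CommRingCat.hom_ext (RingHom.ext f.commutes)
  have e2 : CommRingCat.ofHom f.toRingHom ≫ i.appTop = φ.appTop :=
    CommRingCat.hom_ext (RingHom.ext fun w => congr($hf w))
  refine ⟨U.isoSpec.hom ≫ Spec.map (CommRingCat.ofHom f.toRingHom) ≫ V.isoSpec.inv, ?_, ?_⟩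
  · rw [Category.assoc, Category.assoc, ← Scheme.isoSpec_inv_naturality, ← Spec.map_comp_assoc, e1, Spec.map_id,
      Category.id_comp, Iso.hom_inv_id]
  · rw [← Category.assoc, ← Scheme.isoSpec_hom_naturality, Category.assoc, ← Spec.map_comp_assoc, e2,
      Scheme.isoSpec_inv_naturality, Iso.hom_inv_id_assoc]

/-- an affine chart around a point of the source -/
theorem exists_chart (v : V ⟶ U) (y : V) :
    ∃ (P : U.Opens) (B : V.Opens), IsAffineOpen P ∧ IsAffineOpen B ∧ v y ∈ P ∧ y ∈ B ∧ B ≤ v ⁻¹ᵁ P := by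
  obtain ⟨P, hP, hxP, -⟩ := exists_isAffineOpen_mem_and_subset (X := U) (x := v y) (U := ⊤) trivial
  obtain ⟨B, hB, hyB, hle⟩ := exists_isAffineOpen_mem_and_subset (X := V) (x := y) (U := v ⁻¹ᵁ P) hxP
  exact ⟨P, B, hP, hB, hxP, hyB, hle⟩

/-- shrink a chart into a neighbourhood -/
theorem exists_chart_le (v : V ⟶ U) (y : V) (P : U.Opens) (B : V.Opens) (hP : IsAffineOpen P)
    (hB : IsAffineOpen B) (hle : B ≤ v ⁻¹ᵁ P) (hy : y ∈ B) (Q : U.Opens) (hQ : v y ∈ Q) (hQP : Q ≤ P) :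
    ∃ (a : U.Opens) (b : V.Opens), IsAffineOpen a ∧ IsAffineOpen b ∧ v y ∈ a ∧ a ≤ Q ∧ b = B ⊓ v ⁻¹ᵁ a := by
  obtain ⟨r, hr, hyr⟩ := hP.exists_basicOpen_le (V := Q) ⟨v y, hQ⟩ (hQP hQ)
  refine ⟨U.basicOpen r, B ⊓ v ⁻¹ᵁ U.basicOpen r, hP.basicOpen r, ?_, hyr, hr, rfl⟩
  have e : B ⊓ v ⁻¹ᵁ U.basicOpen r = V.basicOpen (v.appLE P B hle r) := by
    rw [Scheme.Hom.appLE, CommRingCat.comp_apply, Scheme.basicOpen_res, Scheme.preimage_basicOpen]
  rw [e]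
  exact hB.basicOpen _

theorem section_unique (i : U₀ ⟶ U) [IsIntegralHom i] [UniversallyInjective i] [Surjective i]
    (v : V ⟶ U) [WeaklyEtale v] (s₁ s₂ : U ⟶ V) (h₁ : s₁ ≫ v = 𝟙 U)
    (h₂ : s₂ ≫ v = 𝟙 U) (h : i ≫ s₁ = i ≫ s₂) : s₁ = s₂ := by
  have hpt : ∀ x, s₁ x = s₂ x := fun x => by
    obtain ⟨z, rfl⟩ := i.surjective x
    rw [← Scheme.Hom.comp_apply, ← Scheme.Hom.comp_apply, h]
  have key : ∀ x : U, ∃ a : U.Opens, x ∈ a ∧ a.ι ≫ s₁ = a.ι ≫ s₂ := by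
    intro x
    have hvx : v (s₁ x) = x := by rw [← Scheme.Hom.comp_apply, h₁]; rfl
    obtain ⟨P, B, hP, hB, hxP, hyB, hle⟩ := exists_chart v (s₁ x)
    obtain ⟨a, b, ha, hb, hxa, haQ, rfl⟩ := exists_chart_le v (s₁ x) P B hP hB hle hyB (P ⊓ s₁ ⁻¹ᵁ B)
      ⟨hxP, by show s₁ (v (s₁ x)) ∈ B; rwa [hvx]⟩ inf_le_left
    rw [hvx] at hxa
    haveI : IsAffine a.toScheme := ha
    haveI : IsAffine (B ⊓ v ⁻¹ᵁ a : V.Opens).toScheme := hb
    have hle' : ∀ s : U ⟶ V, s ≫ v = 𝟙 U → (∀ x, s x = s₁ x) → a ≤ s ⁻¹ᵁ (B ⊓ v ⁻¹ᵁ a) := fun s hs hs' z hz =>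
      ⟨by rw [hs']; exact (haQ hz).2, by show v (s z) ∈ a; rw [← Scheme.Hom.comp_apply, hs]; exact hz⟩
    have e1 := hle' s₁ h₁ fun _ => rfl
    have e2 := hle' s₂ h₂ fun z => (hpt z).symm
    haveI : WeaklyEtale (v.resLE a (B ⊓ v ⁻¹ᵁ a) inf_le_right) := by
      haveI : WeaklyEtale (v.resLE a (B ⊓ v ⁻¹ᵁ a) inf_le_right ≫ a.ι) := by
        rw [Scheme.Hom.resLE_comp_ι]; infer_instance
      exact WeaklyEtale.of_comp _ a.ι
    haveI : IsIntegralHom (i ∣_ a) := IsZariskiLocalAtTarget.restrict ‹_› a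
    haveI : UniversallyInjective (i ∣_ a) := IsZariskiLocalAtTarget.restrict ‹_› a
    haveI : Surjective (i ∣_ a) := IsZariskiLocalAtTarget.restrict ‹_› a
    refine ⟨a, hxa, ?_⟩
    rw [← Scheme.Hom.resLE_comp_ι s₁ e1, ← Scheme.Hom.resLE_comp_ι s₂ e2]
    congr 1
    refine affine_unique (i ∣_ a) (v.resLE a (B ⊓ v ⁻¹ᵁ a) inf_le_right) _ _ ?_ ?_ ?_
    · rw [← cancel_mono a.ι, Category.assoc, Scheme.Hom.resLE_comp_ι, Scheme.Hom.resLE_comp_ι_assoc, h₁]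
      simp
    · rw [← cancel_mono a.ι, Category.assoc, Scheme.Hom.resLE_comp_ι, Scheme.Hom.resLE_comp_ι_assoc, h₂]
      simp
    · rw [← cancel_mono (B ⊓ v ⁻¹ᵁ a : V.Opens).ι, Category.assoc, Category.assoc, Scheme.Hom.resLE_comp_ι,
        Scheme.Hom.resLE_comp_ι, morphismRestrict_ι_assoc, morphismRestrict_ι_assoc, h]
  choose a hxa ha using key
  let 𝒰 : U.OpenCover := Scheme.openCoverOfIsOpenCover U a
    (TopologicalSpace.IsOpenCover.mk (eq_top_iff.2 fun x _ => TopologicalSpace.Opens.mem_iSup.2 ⟨x, hxa x⟩))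
  exact 𝒰.hom_ext _ _ fun x => ha x

/-- maps into weakly étale schemes are determined after a universal homeomorphism -/
theorem hom_unique {P₀ P : Scheme.{u}} (i : P₀ ⟶ P) [IsIntegralHom i] [UniversallyInjective i] [Surjective i]
    (v : V ⟶ U) [WeaklyEtale v] (s₁ s₂ : P ⟶ V) (hv : s₁ ≫ v = s₂ ≫ v) (h : i ≫ s₁ = i ≫ s₂) : s₁ = s₂ := by
  let σ₁ : P ⟶ pullback v (s₁ ≫ v) := pullback.lift s₁ (𝟙 P) (by simp)
  let σ₂ : P ⟶ pullback v (s₁ ≫ v) := pullback.lift s₂ (𝟙 P) (by simp [hv])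
  haveI : WeaklyEtale (pullback.snd v (s₁ ≫ v)) := MorphismProperty.pullback_snd _ _ ‹_›
  have := section_unique i (pullback.snd v (s₁ ≫ v)) σ₁ σ₂ (pullback.lift_snd _ _ _) (pullback.lift_snd _ _ _) (by
    apply pullback.hom_ext
    · simp [σ₁, σ₂, h]
    · simp [σ₁, σ₂])
  simpa [σ₁, σ₂] using congrArg (· ≫ pullback.fst v (s₁ ≫ v)) this

theorem section_exists (i : U₀ ⟶ U) [IsIntegralHom i] [UniversallyInjective i] [Surjective i]
    (v : V ⟶ U) [WeaklyEtale v] (φ : U₀ ⟶ V) (hφ : φ ≫ v = i) : ∃ s : U ⟶ V, s ≫ v = 𝟙 U ∧ i ≫ s = φ := by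
  have key : ∀ x : U, ∃ (a : U.Opens) (s : a.toScheme ⟶ V), x ∈ a ∧ s ≫ v = a.ι ∧
      (i ∣_ a) ≫ s = (i ⁻¹ᵁ a).ι ≫ φ := by
    intro x
    obtain ⟨z, rfl⟩ := i.surjective x
    have hvz : v (φ z) = i z := by rw [← Scheme.Hom.comp_apply, hφ]
    obtain ⟨P, B, hP, hB, hxP, hyB, hle⟩ := exists_chart v (φ z)
    let Q : U.Opens := ⟨(i '' ((φ ⁻¹ᵁ B : U₀.Opens) : Set U₀)ᶜ)ᶜ,
      (i.isClosedMap _ (φ ⁻¹ᵁ B).2.isClosed_compl).isOpen_compl⟩
    have hzQ : i z ∈ Q := fun ⟨z', hz', e⟩ => hz' (by rw [i.injective e]; exact hyB)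
    have hQ : ∀ z', i z' ∈ Q → φ z' ∈ B := fun z' hz' => by
      by_contra hn
      exact hz' ⟨z', hn, rfl⟩
    obtain ⟨a, b, ha, hb, hxa, haQ, rfl⟩ := exists_chart_le v (φ z) P B hP hB hle hyB (P ⊓ Q)
      ⟨hxP, by rw [hvz]; exact hzQ⟩ inf_le_left
    rw [hvz] at hxa
    haveI : IsAffine a.toScheme := ha
    haveI : IsAffine (B ⊓ v ⁻¹ᵁ a : V.Opens).toScheme := hb
    haveI : WeaklyEtale (v.resLE a (B ⊓ v ⁻¹ᵁ a) inf_le_right) := by
      haveI : WeaklyEtale (v.resLE a (B ⊓ v ⁻¹ᵁ a) inf_le_right ≫ a.ι) := by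
        rw [Scheme.Hom.resLE_comp_ι]; infer_instance
      exact WeaklyEtale.of_comp _ a.ι
    haveI : IsIntegralHom (i ∣_ a) := IsZariskiLocalAtTarget.restrict ‹_› a
    haveI : UniversallyInjective (i ∣_ a) := IsZariskiLocalAtTarget.restrict ‹_› a
    haveI : Surjective (i ∣_ a) := IsZariskiLocalAtTarget.restrict ‹_› a
    have e1 : i ⁻¹ᵁ a ≤ φ ⁻¹ᵁ (B ⊓ v ⁻¹ᵁ a) := fun z' hz' =>
      ⟨hQ z' (haQ hz').2, by show v (φ z') ∈ a; rw [← Scheme.Hom.comp_apply, hφ]; exact hz'⟩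
    obtain ⟨s, hs, hs'⟩ := affine_exists (i ∣_ a) (v.resLE a (B ⊓ v ⁻¹ᵁ a) inf_le_right)
      (φ.resLE (B ⊓ v ⁻¹ᵁ a) (i ⁻¹ᵁ a) e1) (by
        rw [← cancel_mono a.ι, Category.assoc, Scheme.Hom.resLE_comp_ι, Scheme.Hom.resLE_comp_ι_assoc, hφ,
          morphismRestrict_ι])
    refine ⟨a, s ≫ (B ⊓ v ⁻¹ᵁ a : V.Opens).ι, hxa, ?_, ?_⟩
    · rw [Category.assoc, ← Scheme.Hom.resLE_comp_ι v inf_le_right, reassoc_of% hs]
    · rw [reassoc_of% hs', Scheme.Hom.resLE_comp_ι]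
  choose a s hxa hs hs' using key
  let 𝒰 : U.OpenCover := Scheme.openCoverOfIsOpenCover U a
    (TopologicalSpace.IsOpenCover.mk (eq_top_iff.2 fun x _ => TopologicalSpace.Opens.mem_iSup.2 ⟨x, hxa x⟩))
  have hgl : ∀ x y : U, pullback.fst (a x).ι (a y).ι ≫ s x = pullback.snd (a x).ι (a y).ι ≫ s y := by
    intro x y
    let p := pullback.fst (a x).ι (a y).ι ≫ (a x).ι
    haveI : IsIntegralHom (pullback.snd i p) := MorphismProperty.pullback_snd i p ‹_›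
    haveI : UniversallyInjective (pullback.snd i p) := MorphismProperty.pullback_snd i p ‹_›
    haveI : Surjective (pullback.snd i p) := MorphismProperty.pullback_snd i p ‹_›
    refine hom_unique (pullback.snd i p) v _ _ ?_ ?_
    · rw [Category.assoc, Category.assoc, hs, hs, pullback.condition]
    · have hlift : ∀ (w : U) (g : pullback (a x).ι (a y).ι ⟶ (a w).toScheme), g ≫ (a w).ι = p →
          pullback.snd i p ≫ g ≫ s w = pullback.fst i p ≫ φ := by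
        intro w g hg
        let l : pullback i p ⟶ (i ⁻¹ᵁ a w).toScheme := (isPullback_morphismRestrict i (a w)).lift
          (pullback.snd i p ≫ g) (pullback.fst i p) (by rw [Category.assoc, hg, pullback.condition])
        have l1 : l ≫ i ∣_ a w = pullback.snd i p ≫ g := (isPullback_morphismRestrict i (a w)).lift_fst _ _ _
        have l2 : l ≫ (i ⁻¹ᵁ a w).ι = pullback.fst i p := (isPullback_morphismRestrict i (a w)).lift_snd _ _ _
        rw [← reassoc_of% l1, hs', reassoc_of% l2]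
      rw [hlift x _ rfl, hlift y _ pullback.condition.symm]
  refine ⟨𝒰.glueMorphisms s hgl, 𝒰.hom_ext _ _ fun x => ?_, ?_⟩
  · rw [Scheme.Cover.ι_glueMorphisms_assoc, hs, Category.comp_id]
    rfl
  · let 𝒱 : U₀.OpenCover := Scheme.openCoverOfIsOpenCover U₀ (fun x => i ⁻¹ᵁ a x)
      (TopologicalSpace.IsOpenCover.mk (eq_top_iff.2 fun z _ => TopologicalSpace.Opens.mem_iSup.2 ⟨i z, hxa (i z)⟩))
    refine 𝒱.hom_ext _ _ fun x => ?_
    show (i ⁻¹ᵁ a x).ι ≫ i ≫ 𝒰.glueMorphisms s hgl = (i ⁻¹ᵁ a x).ι ≫ φ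
    rw [← morphismRestrict_ι_assoc, show (a x).ι = 𝒰.f x from rfl, Scheme.Cover.ι_glueMorphisms, hs']

/-- maps into weakly étale schemes lift uniquely along universal homeomorphisms -/
theorem existsUnique_lift {P₀ P : Scheme.{u}} (i : P₀ ⟶ P) [IsIntegralHom i] [UniversallyInjective i] [Surjective i]
    (v : V ⟶ U) [WeaklyEtale v] (t : P ⟶ U) (φ : P₀ ⟶ V) (hφ : φ ≫ v = i ≫ t) :
    ∃! f : P ⟶ V, f ≫ v = t ∧ i ≫ f = φ := by
  haveI : WeaklyEtale (pullback.snd v t) := MorphismProperty.pullback_snd _ _ ‹_›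
  obtain ⟨s, hs, hs'⟩ := section_exists i (pullback.snd v t) (pullback.lift φ i hφ) (pullback.lift_snd _ _ _)
  refine ⟨s ≫ pullback.fst v t, ⟨?_, ?_⟩, fun f hf => ?_⟩
  · rw [Category.assoc, pullback.condition, reassoc_of% hs]
  · rw [reassoc_of% hs', pullback.lift_fst]
  · refine hom_unique i v _ _ ?_ ?_
    · rw [hf.1, Category.assoc, pullback.condition, reassoc_of% hs]
    · rw [hf.2, reassoc_of% hs', pullback.lift_fst]

end Groth.Agent.ProEtInv
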